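import Cfsg.Agent.H603.CC.Basic_mg
import Cfsg.Agent.H466.CCRep
import Cfsg.Agent.Characters.Values
import Mathlib
import Mathlib.GroupTheory.GroupAction.Quotient
import Cfsg.Agent.H664.R1.Heis
import Cfsg.Agent.H40.GGAbs
import Cfsg.Agent.H667.TwoPSUModel
import Cfsg.Agent.Characters.Core
import Cfsg.Agent.Characters.Linear
import Cfsg.Agent.Characters.Central
import Mathlib.RingTheory.RootsOfUnity.PrimitiveRoots
import Mathlib.RingTheory.IntegralDomain
import Cfsg.Agent.H183.CC.Deg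
import Cfsg.Agent.H775.CC.Regu_mg
set_option linter.all false

-- part: H466/CCPart
section
/-!
# S4793, PARTI: characters with reflection-fixed vectors

`part_one_of` : the statement `part_one`, with the results of the other tasks as hypotheses (in the form of
`tools/plans/S4793_tasks.lean`).
-/

set_option autoImplicit false

namespace Cfsg.Agent.H466.CCPart

open Module Cfsg Cfsg.Agent.H603.CC Cfsg.Agent.H466.CCRep

universe u v

variable {F : Type u} {V : Type v} [Field F] [AddCommGroup V] [Module F V] {q : ℕ} {σ : F →+* F}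
  {B : V →ₛₗ[σ] V →ₗ[F] F}

theorem conj_FixS {W W' : Submodule F V} {g z : UU B} (hg : ∀ x ∈ W, ac B g x ∈ W') (hz : z ∈ FixS B W') :
    g⁻¹ * z * g ∈ FixS B W := by
  intro x hx
  rw [ac_mul, ac_mul, hz _ (hg x hx), ac_inv_ac]

theorem map_perp {W W' : Submodule F V} {g : UU B} (hg : ∀ x ∈ W', ac B g⁻¹ x ∈ W) {x : V} (hx : x ∈ perp B W) :
    ac B g x ∈ perp B W' := by
  intro w hw
  have h1 := hx _ (hg w hw)
  rwa [← form_ac g, ac_ac_inv] at h1

theorem mem_perp_span {f x : V} : x ∈ perp B (Submodule.span F {f}) ↔ B f x = 0 := by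
  constructor
  · intro h
    exact h f (Submodule.mem_span_singleton_self f)
  · intro h w hw
    obtain ⟨c, rfl⟩ := Submodule.mem_span_singleton.mp hw
    rw [LinearMap.map_smulₛₗ, LinearMap.smul_apply, h, smul_zero]

theorem conj_Ref {f f' : V} {g r : UU B} (hg : ac B g f = f') (hr : r ∈ Ref B f') : g⁻¹ * r * g ∈ Ref B f := by
  refine conj_FixS (W' := perp B (Submodule.span F {f'})) (fun x hx => ?_) hr
  rw [mem_perp_span] at hx ⊢
  rw [← hg, form_ac, hx]

/-- `Z_E` is commutative. -/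
theorem FixS_comm {E : Submodule F V} (hE : IsTS B E) (hpp : perp B (perp B E) = E) {z w : UU B}
    (hz : z ∈ FixS B (perp B E)) (hw : w ∈ FixS B (perp B E)) : z * w = w * z := by
  have key : ∀ z ∈ FixS B (perp B E), ∀ x, ac B z x - x ∈ E := by
    intro z hz x
    rw [← hpp]
    intro y hy
    rw [map_sub, sub_eq_zero]
    conv_lhs => rw [← hz y hy]
    exact form_ac z y x
  have hEp : ∀ z ∈ FixS B (perp B E), ∀ e ∈ E, ac B z e = e := fun z hz e he =>
    hz e fun w hw => hE w hw e he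
  apply ac_ext
  intro x
  have h1 := hEp z hz _ (key w hw x)
  have h2 := hEp w hw _ (key z hz x)
  rw [ac_sub] at h1 h2
  rw [ac_mul, ac_mul]
  have h3 : ac B z (ac B w x) = ac B z x + (ac B w x - x) := by rw [← h1]; abel
  have h4 : ac B w (ac B z x) = ac B w x + (ac B z x - x) := by rw [← h2]; abel
  rw [h3, h4]
  abel

/-- the elements `z(e,e')` -/
def IsZZ (B : V →ₛₗ[σ] V →ₗ[F] F) (z : UU B) (e e' : V) : Prop :=
  ∀ x, ac B z x = x + B e x • e' - B e' x • e

theorem IsZZ.conj {g z : UU B} {e e' : V} (hz : IsZZ B z (ac B g e) (ac B g e')) :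
    IsZZ B (g⁻¹ * z * g) e e' := by
  intro x
  rw [ac_mul, ac_mul, hz, form_ac, form_ac, ac_sub, ac_add, ac_smul, ac_smul, ac_inv_ac, ac_inv_ac, ac_inv_ac]

/-- Witt's theorem for two injective linear maps -/
theorem witt_maps
    (hwitt : ∀ (X : Submodule F V) (φ : X →ₗ[F] V), Function.Injective φ →
      (∀ x x', B (φ x) (φ x') = B (x : V) (x' : V)) → ∃ g : UU B, ∀ x : X, ac B g x = φ x)
    {U : Type*} [AddCommGroup U] [Module F U] (j j' : U →ₗ[F] V) (hj : Function.Injective j)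
    (hj' : Function.Injective j') (hB : ∀ a b, B (j' a) (j' b) = B (j a) (j b)) :
    ∃ g : UU B, ∀ a, ac B g (j a) = j' a := by
  obtain ⟨g, hg⟩ := hwitt (LinearMap.range j) (j' ∘ₗ (LinearEquiv.ofInjective j hj).symm.toLinearMap)
    (hj'.comp (LinearEquiv.ofInjective j hj).symm.injective) (by
      intro x x'
      obtain ⟨a, rfl⟩ := (LinearEquiv.ofInjective j hj).surjective x
      obtain ⟨b, rfl⟩ := (LinearEquiv.ofInjective j hj).surjective x'
      simp only [LinearMap.comp_apply, LinearEquiv.coe_coe, LinearEquiv.symm_apply_apply]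
      exact hB a b)
  refine ⟨g, fun a => ?_⟩
  have h1 := hg (LinearEquiv.ofInjective j hj a)
  simp only [LinearMap.comp_apply, LinearEquiv.coe_coe, LinearEquiv.symm_apply_apply] at h1
  exact h1

section Rep

variable {X : Type*} [AddCommGroup X] [Module ℂ X] (ρ : Representation ℂ (UU B) X)

/-- the fixed space of the group of reflections -/
def YY (f : V) : Submodule ℂ X where
  carrier := {y | ∀ r ∈ Ref B f, ρ r y = y}
  add_mem' := fun {a b} ha hb r hr => by rw [map_add, ha r hr, hb r hr]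
  zero_mem' := fun r _ => map_zero _
  smul_mem' := fun c a ha r hr => by rw [map_smul, ha r hr]

variable {ρ}

theorem mem_YY {f : V} {y : X} : y ∈ YY ρ f ↔ ∀ r ∈ Ref B f, ρ r y = y := Iff.rfl

theorem rho_conj (g z : UU B) (y : X) : ρ z (ρ g y) = ρ g (ρ (g⁻¹ * z * g) y) := by
  rw [← Module.End.mul_apply, ← Module.End.mul_apply, ← map_mul, ← map_mul]
  congr 2
  group

theorem map_YY {f f' : V} {g : UU B} (hg : ac B g f = f') {y : X} (hy : y ∈ YY ρ f) : ρ g y ∈ YY ρ f' := by
  intro r hr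
  rw [rho_conj, hy _ (conj_Ref hg hr)]

theorem inv_fix {f f' : V} {g : UU B} (hg : ac B g f = f') : ac B g⁻¹ f' = f := by
  rw [← hg, ac_inv_ac]

theorem rho_inv_self (g : UU B) (y : X) : ρ g (ρ g⁻¹ y) = y := by
  rw [← Module.End.mul_apply, ← map_mul, mul_inv_cancel, map_one, Module.End.one_apply]

theorem rho_ne_zero {g : UU B} {y : X} (hy : y ≠ 0) : ρ g y ≠ 0 := by
  intro h0
  apply hy
  have h1 : ρ g⁻¹ (ρ g y) = y := by
    rw [← Module.End.mul_apply, ← map_mul, inv_mul_cancel, map_one, Module.End.one_apply]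
  rw [← h1, h0, map_zero]

/-- the subgroup acting trivially on a submodule -/
def Triv (ρ : Representation ℂ (UU B) X) (Y : Submodule ℂ X) : Subgroup (UU B) where
  carrier := {g | ∀ y ∈ Y, ρ g y = y}
  mul_mem' := by
    intro a b ha hb y hy
    rw [map_mul, Module.End.mul_apply, hb y hy, ha y hy]
  one_mem' := fun y _ => by rw [map_one, Module.End.one_apply]
  inv_mem' := by
    intro a ha y hy
    have h1 : ρ a⁻¹ (ρ a y) = y := by
      rw [← Module.End.mul_apply, ← map_mul, inv_mul_cancel, map_one, Module.End.one_apply]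
    rwa [ha y hy] at h1

theorem mem_Triv {Y : Submodule ℂ X} {g : UU B} : g ∈ Triv ρ Y ↔ ∀ y ∈ Y, ρ g y = y := Iff.rfl

variable [Finite F] [Finite V]

/-- **Second case**: `Z_E` acts trivially on the fixed space of the reflections. -/
theorem case_two (h : HS q σ B)
    (hwitt : ∀ (X : Submodule F V) (φ : X →ₗ[F] V), Function.Injective φ →
      (∀ x x', B (φ x) (φ x') = B (x : V) (x' : V)) → ∃ g : UU B, ∀ x : X, ac B g x = φ x)
    {E : Submodule F V} (hE : IsTS B E) (hE0 : E ≠ ⊥) {f : V} (hf : B f f = 1) (hfE : f ∈ perp B E)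
    (hgen : ∀ N : Subgroup (UU B), (∀ t : UU B, IsTv t → ac B t f = f → t ∈ N) →
      ∀ g : UU B, dt g = 1 → ac B g f = f → g ∈ N)
    (htriv : ∀ z ∈ FixS B (perp B E), ∀ y ∈ YY ρ f, ρ z y = y)
    {s : UU B} (hs : dt s = 1) (hsf : ac B s f = f) {y : X} (hy : y ∈ YY ρ f) : ρ s y = y := by
  refine hgen (Triv ρ (YY ρ f)) ?_ s hs hsf y hy
  intro t ht htf y hy
  obtain ⟨ht1, e, he0, hee, hte⟩ := ht
  -- `f` is orthogonal to `e`
  have hef : B e f = 0 := by
    by_contra hne
    apply ht1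
    apply ac_ext
    intro x
    have h1 : x - (B e x / B e f) • f ∈ perp B (Submodule.span F {e}) := by
      rw [mem_perp_span, map_sub, map_smul, smul_eq_mul, div_mul_cancel₀ _ hne, sub_self]
    have h2 := hte _ h1
    rw [ac_sub, ac_smul, htf] at h2
    have h3 := sub_left_injective h2
    rw [ac_one]
    exact h3
  have hfe : B f e = 0 := h.zero_symm hef
  obtain ⟨e₀, he₀E, he₀⟩ := Submodule.exists_mem_ne_zero_of_ne_bot hE0
  have he₀f : B e₀ f = 0 := hfE e₀ he₀E
  have hfe₀ : B f e₀ = 0 := h.zero_symm he₀f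
  have hinj : ∀ v : V, v ≠ 0 → B f v = 0 → Function.Injective
      (LinearMap.coprod (LinearMap.toSpanSingleton F V v) (LinearMap.toSpanSingleton F V f)) := by
    intro v hv hfv
    rw [← LinearMap.ker_eq_bot, LinearMap.ker_eq_bot']
    rintro ⟨a, b⟩ hab
    rw [LinearMap.coprod_apply, LinearMap.toSpanSingleton_apply, LinearMap.toSpanSingleton_apply] at hab
    have h1 := congrArg (B f) hab
    rw [map_add, map_smul, map_smul, hfv, hf, map_zero, smul_zero, zero_add, smul_eq_mul, mul_one] at h1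
    subst h1
    rw [zero_smul, add_zero] at hab
    rcases smul_eq_zero.mp hab with h2 | h2
    · have h3 : a = 0 := h2
      rw [h3]; rfl
    · exact absurd h2 hv
  obtain ⟨g, hg⟩ := witt_maps hwitt
    (LinearMap.coprod (LinearMap.toSpanSingleton F V e₀) (LinearMap.toSpanSingleton F V f))
    (LinearMap.coprod (LinearMap.toSpanSingleton F V e) (LinearMap.toSpanSingleton F V f))
    (hinj e₀ he₀ hfe₀) (hinj e he0 hfe) (by
      rintro ⟨a, b⟩ ⟨c, d⟩
      simp only [LinearMap.coprod_apply, LinearMap.toSpanSingleton_apply, map_add, LinearMap.add_apply,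
        LinearMap.map_smulₛₗ, LinearMap.smul_apply, map_smul, hee, hef, hfe, hf, hE e₀ he₀E e₀ he₀E, he₀f, hfe₀])
  have hge : ac B g e₀ = e := by
    have := hg (1, 0)
    simpa [LinearMap.coprod_apply, LinearMap.toSpanSingleton_apply] using this
  have hgf : ac B g f = f := by
    have := hg (0, 1)
    simpa [LinearMap.coprod_apply, LinearMap.toSpanSingleton_apply] using this
  have h1 : g⁻¹ * t * g ∈ FixS B (perp B E) := by
    refine conj_FixS (W' := perp B (Submodule.span F {e})) (fun x hx => ?_) hte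
    rw [mem_perp_span, ← hge, form_ac]
    exact hx e₀ he₀E
  have h2 : ρ g⁻¹ y ∈ YY ρ f := map_YY (inv_fix hgf) hy
  have h3 : ρ t (ρ g (ρ g⁻¹ y)) = ρ g (ρ g⁻¹ y) := by
    rw [rho_conj, htriv _ h1 _ h2]
  rwa [rho_inv_self] at h3

omit [Finite V] in
/-- **First case**: a nontrivial character of `Z_E` occurs on the fixed space of the reflections. -/
theorem case_one [Finite V] (h : HS q σ B)
    (hwitt : ∀ (X : Submodule F V) (φ : X →ₗ[F] V), Function.Injective φ →
      (∀ x x', B (φ x) (φ x') = B (x : V) (x' : V)) → ∃ g : UU B, ∀ x : X, ac B g x = φ x)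
    {m : ℕ} {E : Submodule F V} (hE : IsTS B E) (hEm : finrank F E = m) (hpp : perp B (perp B E) = E)
    {f : V} (hf : B f f = 1) (hfE : f ∈ perp B E) {T : Subgroup (UU B)}
    (hTf : ∀ t ∈ T, ac B t f = f) (hTE : ∀ t ∈ T, ∀ e ∈ E, ac B t e ∈ E)
    (hC : ∀ r, 1 ≤ r → r ≤ m → ∃ C : E →ₛₗ[σ] E →ₗ[F] F, C.IsSymm ∧ finrank F (LinearMap.ker C) + r = m ∧
        ∀ t (_ : t ∈ T) (hte : ∀ e ∈ E, ac B t e ∈ E),
          (∀ e e' : E, C ⟨ac B t e, hte e e.2⟩ ⟨ac B t e', hte e' e'.2⟩ = C e e') → t ∈ Zs B ⊔ Ref B f)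
    (hzz : ∀ e ∈ E, ∀ e' ∈ E, ∃ z ∈ FixS B (perp B E), ∀ x, ac B z x = x + B e x • e' - B e' x • e)
    {ψ : AddChar F ℂ} (hψ : ψ ≠ 1)
    (hchar : ∀ l : FixS B (perp B E) →* ℂˣ, ∃ C : E →ₛₗ[σ] E →ₗ[F] F, C.IsSymm ∧ (C = 0 → l = 1) ∧
        ∀ (z : FixS B (perp B E)) (e e' : E),
          (∀ x, ac B (z : UU B) x = x + B (e : V) x • (e' : V) - B (e' : V) x • (e : V)) →
          ((l z : ℂˣ) : ℂ) = ψ (C e e'))
    (hiso : ∀ C C' : E →ₛₗ[σ] E →ₗ[F] F, C.IsSymm → C'.IsSymm →
      finrank F (LinearMap.ker C) = finrank F (LinearMap.ker C') → ∃ g : E ≃ₗ[F] E, ∀ x y, C' (g x) (g y) = C x y)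
    (hZs : ∀ z ∈ Zs B, ∀ y : X, ρ z y = y)
    {z₀ : UU B} (hz₀ : z₀ ∈ FixS B (perp B E)) {y₀ : X} (hy₀ : y₀ ∈ YY ρ f) (hne : ρ z₀ y₀ ≠ y₀) :
    ∃ w : X, w ≠ 0 ∧ (∀ t ∈ T, ρ t w = w) ∧ ∀ r ∈ Ref B f, ρ r w = w := by
  -- the eigenvector
  let _ : CommGroup (FixS B (perp B E)) :=
    { (inferInstance : Group (FixS B (perp B E))) with
      mul_comm := fun a b => Subtype.ext (FixS_comm hE hpp a.2 b.2) }
  have hzf : ∀ z ∈ FixS B (perp B E), ac B z f = f := fun z hz => hz f hfE
  obtain ⟨l, hl, y, hy, hy0, hyl⟩ := exists_eigen (A := FixS B (perp B E))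
    ((ρ : UU B →* Module.End ℂ X).comp (FixS B (perp B E)).subtype) (YY ρ f)
    (fun a y hy => map_YY (hzf a a.2) hy) ⟨z₀, hz₀⟩ y₀ hy₀ hne
  replace hyl : ∀ a : FixS B (perp B E), ρ (a : UU B) y = ((l a : ℂˣ) : ℂ) • y := hyl
  obtain ⟨C, hCs, hC0, hCl⟩ := hchar l
  have hCne : C ≠ 0 := fun h0 => hl (hC0 h0)
  have hlt : finrank F (LinearMap.ker C) < m := by
    rw [← hEm]
    have h1 : LinearMap.ker C ≠ ⊤ := fun h0 => hCne (LinearMap.ker_eq_top.mp h0)
    exact Submodule.finrank_lt h1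
  obtain ⟨C', hCs', hk', hst'⟩ := hC (m - finrank F (LinearMap.ker C)) (by omega) (by omega)
  obtain ⟨g₀, hg₀⟩ := hiso C C' hCs hCs' (by omega)
  have hfe : ∀ e ∈ E, B f e = 0 := fun e he => h.zero_symm (hfE e he)
  have hinj : ∀ k : E ≃ₗ[F] E, Function.Injective
      (LinearMap.coprod (E.subtype ∘ₗ k.toLinearMap) (LinearMap.toSpanSingleton F V f)) := by
    intro k
    rw [← LinearMap.ker_eq_bot, LinearMap.ker_eq_bot']
    rintro ⟨a, b⟩ hab
    rw [LinearMap.coprod_apply, LinearMap.toSpanSingleton_apply, LinearMap.comp_apply,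
      Submodule.subtype_apply] at hab
    have h1 := congrArg (B f) hab
    rw [map_add, map_smul, hfe _ (Subtype.mem _), hf, map_zero, zero_add, smul_eq_mul, mul_one] at h1
    subst h1
    rw [zero_smul, add_zero] at hab
    have h2 : k a = 0 := Subtype.ext hab
    rw [show a = 0 from k.map_eq_zero_iff.mp h2]
    rfl
  obtain ⟨g, hg⟩ := witt_maps hwitt
    (LinearMap.coprod (E.subtype ∘ₗ (LinearEquiv.refl F E).toLinearMap) (LinearMap.toSpanSingleton F V f))
    (LinearMap.coprod (E.subtype ∘ₗ g₀.toLinearMap) (LinearMap.toSpanSingleton F V f))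
    (hinj _) (hinj _) (by
      rintro ⟨a, b⟩ ⟨c, d⟩
      simp only [LinearMap.coprod_apply, LinearMap.toSpanSingleton_apply, map_add, LinearMap.add_apply,
        LinearMap.map_smulₛₗ, LinearMap.smul_apply, map_smul, LinearMap.comp_apply, Submodule.subtype_apply,
        LinearEquiv.coe_coe, LinearEquiv.refl_apply]
      rw [hE _ (Subtype.mem _) _ (Subtype.mem _), hE _ (Subtype.mem _) _ (Subtype.mem _),
        hfe _ (Subtype.mem _), hfe _ (Subtype.mem _), hfE _ (Subtype.mem _), hfE _ (Subtype.mem _)])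
  have hge : ∀ e : E, ac B g (e : V) = g₀ e := by
    intro e
    have := hg (e, 0)
    simpa [LinearMap.coprod_apply, LinearMap.toSpanSingleton_apply] using this
  have hgf : ac B g f = f := by
    have := hg (0, 1)
    simpa [LinearMap.coprod_apply, LinearMap.toSpanSingleton_apply] using this
  have hgE : ∀ e ∈ E, ac B g⁻¹ e ∈ E := by
    intro e he
    obtain ⟨a, ha⟩ := g₀.surjective ⟨e, he⟩
    have h1 : ac B g (a : V) = e := by rw [hge, ha]
    rw [inv_fix h1]
    exact a.2
  have hgZ : ∀ z ∈ FixS B (perp B E), g⁻¹ * z * g ∈ FixS B (perp B E) := fun z hz =>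
    conj_FixS (W' := perp B E) (fun x hx => map_perp hgE hx) hz
  have hTZ : ∀ t ∈ T, ∀ z ∈ FixS B (perp B E), t⁻¹ * z * t ∈ FixS B (perp B E) := fun t ht z hz =>
    conj_FixS (W' := perp B E) (fun x hx => map_perp (fun e he => hTE _ (T.inv_mem ht) e he) hx) hz
  -- the transported character
  let l' : FixS B (perp B E) →* ℂˣ :=
    { toFun := fun z => l ⟨g⁻¹ * z * g, hgZ z z.2⟩
      map_one' := by
        rw [← map_one l]
        congr 1
        apply Subtype.ext
        simp
      map_mul' := fun a b => by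
        rw [← map_mul l]
        congr 1
        apply Subtype.ext
        show g⁻¹ * ((a : UU B) * b) * g = g⁻¹ * a * g * (g⁻¹ * b * g)
        group }
  have hl' : ∀ z : FixS B (perp B E), l' z = l ⟨g⁻¹ * z * g, hgZ z z.2⟩ := fun _ => rfl
  have hval : ∀ (z : FixS B (perp B E)) (e e' : E), IsZZ B (z : UU B) e e' →
      ((l' z : ℂˣ) : ℂ) = ψ (C' e e') := by
    intro z e e' hz
    obtain ⟨a, ha⟩ := g₀.surjective e
    obtain ⟨a', ha'⟩ := g₀.surjective e'
    have h1 : IsZZ B (g⁻¹ * z * g) (a : V) (a' : V) := by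
      apply IsZZ.conj
      rw [hge, hge, ha, ha']
      exact hz
    rw [hl', hCl ⟨g⁻¹ * z * g, hgZ z z.2⟩ a a' h1, ← hg₀, ha, ha']
  refine exists_sum ρ (FixS B (perp B E)) T (Ref B f) hTZ (fun t ht r hr => conj_Ref (hTf t ht) hr) l'
    (y := ρ g y) (rho_ne_zero hy0) (map_YY hgf hy) ?_ ?_
  · intro z
    rw [rho_conj, hl', hyl ⟨g⁻¹ * z * g, hgZ z z.2⟩, map_smul]
  · intro t ht hfix
    have hmem : t ∈ Zs B ⊔ Ref B f := by
      refine hst' t ht (hTE t ht) ?_
      intro e e'
      by_contra hD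
      apply hψ
      have key : ∀ c : F, ψ (c * (C' ⟨ac B t e, hTE t ht e e.2⟩ ⟨ac B t e', hTE t ht e' e'.2⟩ - C' e e')) = 1 := by
        intro c
        obtain ⟨z, hz, hzx⟩ := hzz (ac B t e) (hTE t ht e e.2) (ac B t (c • e')) (hTE t ht _ (E.smul_mem c e'.2))
        have h1 := hfix ⟨z, hz⟩
        have h2 := hval ⟨z, hz⟩ ⟨ac B t e, hTE t ht e e.2⟩ ⟨ac B t (c • e'), hTE t ht _ (E.smul_mem c e'.2)⟩ hzx
        have h3 := hval ⟨t⁻¹ * z * t, hTZ t ht z hz⟩ e (c • e') (IsZZ.conj hzx)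
        rw [h1, h2] at h3
        have h4 : (⟨ac B t (c • (e' : V)), hTE t ht _ (E.smul_mem c e'.2)⟩ : E) =
            c • ⟨ac B t e', hTE t ht e' e'.2⟩ := Subtype.ext (ac_smul t c e')
        rw [h4, LinearMap.map_smul (C' _), LinearMap.map_smul (C' _), smul_eq_mul, smul_eq_mul] at h3
        rw [mul_sub, sub_eq_add_neg, AddChar.map_add_eq_mul, h3, ← AddChar.map_add_eq_mul, add_neg_cancel,
          AddChar.map_zero_eq_one]
      have hD' : C' ⟨ac B t e, hTE t ht e e.2⟩ ⟨ac B t e', hTE t ht e' e'.2⟩ - C' e e' ≠ 0 := sub_ne_zero.mpr hD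
      ext x
      have h5 := key (x / (C' ⟨ac B t e, hTE t ht e e.2⟩ ⟨ac B t e', hTE t ht e' e'.2⟩ - C' e e'))
      rw [div_mul_cancel₀ _ hD'] at h5
      rw [h5, AddChar.one_apply]
    have hle : Zs B ⊔ Ref B f ≤ Triv ρ (YY ρ f) := by
      rw [sup_le_iff]
      exact ⟨fun z hz y _ => hZs z hz y, fun r hr y hy => hy r hr⟩
    exact hle hmem _ (map_YY hgf hy)

end Rep

variable [Finite F] [Finite V]

/-- **PARTI** : with the results of the other tasks as hypotheses. -/
theorem part_one_of (h : HS q σ B) {m : ℕ} (hm : 1 ≤ m) {χ : UU B → ℂ} (hχ : IsIrrCharacter (UU B) χ)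
    (hz : ∀ z ∈ Zs B, ∀ g, χ (z * g) = χ g) (hr : ¬ NoRef χ)
    -- WITT
    (hwitt : ∀ (X : Submodule F V) (φ : X →ₗ[F] V), Function.Injective φ →
      (∀ x x', B (φ x) (φ x') = B (x : V) (x' : V)) → ∃ g : UU B, ∀ x : X, ac B g x = φ x)
    (hpp : ∀ W, perp B (perp B W) = W)
    -- GEN
    (hgen : ∀ f, B f f = 1 → ∀ N : Subgroup (UU B), (∀ t : UU B, IsTv t → ac B t f = f → t ∈ N) →
      ∀ g : UU B, dt g = 1 → ac B g f = f → g ∈ N)
    -- UE
    (hzz : ∀ E, IsTS B E → ∀ e ∈ E, ∀ e' ∈ E,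
      ∃ z ∈ FixS B (perp B E), ∀ x, ac B z x = x + B e x • e' - B e' x • e)
    -- CHARF
    (hchar : ∃ ψ : AddChar F ℂ, ψ ≠ 1 ∧ ∀ E : Submodule F V, IsTS B E →
      ∀ l : FixS B (perp B E) →* ℂˣ, ∃ C : E →ₛₗ[σ] E →ₗ[F] F, C.IsSymm ∧ (C = 0 → l = 1) ∧
        ∀ (z : FixS B (perp B E)) (e e' : E),
          (∀ x, ac B (z : UU B) x = x + B (e : V) x • (e' : V) - B (e' : V) x • (e : V)) →
          ((l z : ℂˣ) : ℂ) = ψ (C e e'))
    -- FORM
    (hiso : ∀ (E : Submodule F V) (C C' : E →ₛₗ[σ] E →ₗ[F] F), C.IsSymm → C'.IsSymm →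
      finrank F (LinearMap.ker C) = finrank F (LinearMap.ker C') → ∃ g : E ≃ₗ[F] E, ∀ x y, C' (g x) (g y) = C x y)
    -- TORUS
    (htorus : ∃ (E : Submodule F V) (f : V) (T : Subgroup (UU B)) (τ : UU B), IsTS B E ∧ finrank F E = m ∧
      B f f = 1 ∧ f ∈ perp B E ∧ τ ∈ T ∧ (∀ t ∈ T, ac B t f = f) ∧ (∀ t ∈ T, ∀ e ∈ E, ac B t e ∈ E) ∧
      (∀ s ∈ T, ∀ t ∈ T, s * t = t * s) ∧
      (∀ g : UU B, g * τ = τ * g → ∃ t ∈ T, ∃ ρ ∈ Ref B f, g = t * ρ) ∧
      Nat.card T = q ^ (2 * m) - 1 ∧ Nat.card (T ⊓ (Zs B ⊔ Ref B f) : Subgroup (UU B)) = q + 1 ∧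
      ∀ r, 1 ≤ r → r ≤ m → ∃ C : E →ₛₗ[σ] E →ₗ[F] F, C.IsSymm ∧ finrank F (LinearMap.ker C) + r = m ∧
        ∀ t (_ : t ∈ T) (hte : ∀ e ∈ E, ac B t e ∈ E),
          (∀ e e' : E, C ⟨ac B t e, hte e e.2⟩ ⟨ac B t e', hte e' e'.2⟩ = C e e') → t ∈ Zs B ⊔ Ref B f)
    -- REGU
    (hregu : ∀ f, B f f = 1 → ∃ x : UU B, ∀ g : UU B, g * x = x * g →
      ∃ z ∈ Zs B, ∃ ρ ∈ Ref B f, ∃ s : UU B, ac B s f = f ∧ dt s = 1 ∧ g = z * ρ * s) :
    ∃ x : UU B, ∑ᶠ g : Subgroup.centralizer {x}, χ (g : UU B) ≠ 0 := by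
  obtain ⟨n, ρ, hirr, rfl⟩ := hχ
  have hZs : ∀ z ∈ Zs B, ∀ y : Fin n → ℂ, ρ z y = y := by
    intro z hz' y
    have h1 : ρ.character z = ρ.character 1 := by
      have := hz z hz' 1
      rwa [mul_one] at this
    rw [Representation.char_one] at h1
    rw [(Cfsg.Agent.Characters.Values.character_eq_finrank_iff ρ z).mp h1, LinearMap.id_apply]
  obtain ⟨E, f, T, τ, hE, hEm, hf, hfE, hτT, hTf, hTE, hTc, hcent, -, -, hC⟩ := htorus
  -- a vector fixed by the reflections with centre `f`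
  have hY : ∃ y ∈ YY ρ f, y ≠ 0 := by
    unfold NoRef at hr
    push Not at hr
    obtain ⟨f₀, hf₀, hne⟩ := hr
    obtain ⟨v, hv0, hv⟩ := exists_fixed ρ (Ref B f₀) hne
    have hinj : ∀ v : V, B v v = 1 → Function.Injective (LinearMap.toSpanSingleton F V v) := by
      intro v hv
      rw [← LinearMap.ker_eq_bot, LinearMap.ker_eq_bot']
      intro a ha
      rw [LinearMap.toSpanSingleton_apply] at ha
      have h1 := congrArg (B v) ha
      rwa [map_smul, hv, map_zero, smul_eq_mul, mul_one] at h1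
    obtain ⟨g, hg⟩ := witt_maps hwitt (LinearMap.toSpanSingleton F V f₀) (LinearMap.toSpanSingleton F V f)
      (hinj f₀ hf₀) (hinj f hf) (by
        intro a b
        simp only [LinearMap.toSpanSingleton_apply, LinearMap.map_smulₛₗ, LinearMap.smul_apply, map_smul, hf, hf₀])
    have hgf : ac B g f₀ = f := by
      have := hg 1
      simpa [LinearMap.toSpanSingleton_apply] using this
    exact ⟨ρ g v, map_YY hgf hv, rho_ne_zero hv0⟩
  obtain ⟨y₁, hy₁, hy₁0⟩ := hY
  by_cases htriv : ∀ z ∈ FixS B (perp B E), ∀ y ∈ YY ρ f, ρ z y = y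
  · -- second case
    have hE0 : E ≠ ⊥ := by
      intro h0
      rw [h0, finrank_bot] at hEm
      omega
    obtain ⟨x, hx⟩ := hregu f hf
    refine ⟨x, sum_ne_zero ρ _ hy₁0 ?_⟩
    intro g hg
    obtain ⟨z, hz1, r, hr1, s, hsf, hs, rfl⟩ := hx g (by
      have := Subgroup.mem_centralizer_iff.mp hg x rfl
      exact this.symm)
    rw [map_mul, map_mul, Module.End.mul_apply, Module.End.mul_apply,
      case_two h hwitt hE hE0 hf hfE (hgen f hf) htriv hs hsf hy₁, hy₁ r hr1, hZs z hz1]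
  · -- first case
    push Not at htriv
    obtain ⟨z₀, hz₀, y₀, hy₀, hne⟩ := htriv
    obtain ⟨ψ, hψ, hψE⟩ := hchar
    obtain ⟨w, hw0, hwT, hwR⟩ := case_one h hwitt hE hEm (hpp E) hf hfE hTf hTE hC (hzz E hE) hψ (hψE E hE)
      (hiso E) hZs hz₀ hy₀ hne
    refine ⟨τ, sum_ne_zero ρ _ hw0 ?_⟩
    intro g hg
    obtain ⟨t, ht, r, hr1, rfl⟩ := hcent g (by
      have := Subgroup.mem_centralizer_iff.mp hg τ rfl
      exact this.symm)
    rw [map_mul, Module.End.mul_apply, hwR r hr1, hwT t ht]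

end Cfsg.Agent.H466.CCPart
end

-- part: H984/CC/LocA
section
/-!
# S4793 [LOC1], part A: the cyclic vector

`A` a finite commutative principal ideal ring acting faithfully on a hermitian space `V` of odd dimension with an adjoint involution `s`;
if `V` has no proper nondegenerate `A`-submodule of odd dimension then `A` is local and `V` is free of rank one.
-/

set_option autoImplicit false

open Cfsg

namespace Cfsg.Agent.H984.CC

open Module Cfsg.Agent.H603.CC

section Ring

/-- In a finite monoid some positive power of every element is idempotent. -/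
theorem exists_pow_idem {A : Type*} [Monoid A] [Finite A] (a : A) : ∃ n : ℕ, 0 < n ∧ a ^ n * a ^ n = a ^ n := by
  obtain ⟨i, j, hij, h⟩ := Finite.exists_ne_map_eq_of_infinite (fun n : ℕ => a ^ n)
  wlog hlt : i < j generalizing i j
  · exact this j i hij.symm h.symm (lt_of_le_of_ne (not_lt.mp hlt) hij.symm)
  have hij' : a ^ i = a ^ j := h
  obtain ⟨d, hd⟩ : ∃ d, j = i + d := ⟨j - i, by omega⟩
  have hd0 : 0 < d := by omega
  -- `a ^ (i + k d) = a ^ i`
  have h1 : ∀ k : ℕ, a ^ (i + k * d) = a ^ i := by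
    intro k
    induction k with
    | zero => rw [zero_mul, add_zero]
    | succ k ih =>
      have : i + (k + 1) * d = (i + d) + k * d := by ring
      rw [this, pow_add, ← hd, ← hij', ← pow_add, ih]
  have h2 : ∀ m, i ≤ m → ∀ k : ℕ, a ^ (m + k * d) = a ^ m := by
    intro m hm k
    obtain ⟨l, rfl⟩ : ∃ l, m = l + i := ⟨m - i, by omega⟩
    rw [add_assoc, pow_add, h1, ← pow_add]
  refine ⟨(i + 1) * d, Nat.mul_pos (Nat.succ_pos _) hd0, ?_⟩
  rw [← pow_add]
  refine h2 _ ?_ _
  calc i ≤ i + 1 := Nat.le_succ _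
    _ = (i + 1) * 1 := (mul_one _).symm
    _ ≤ (i + 1) * d := Nat.mul_le_mul_left _ hd0

/-- A finite commutative ring with trivial idempotents only is local. -/
theorem isLocalRing_of_idem {A : Type*} [CommRing A] [Finite A] [Nontrivial A]
    (h : ∀ e : A, e * e = e → e = 0 ∨ e = 1) : IsLocalRing A := by
  refine IsLocalRing.of_isUnit_or_isUnit_one_sub_self fun a => ?_
  obtain ⟨n, hn, h1⟩ := exists_pow_idem a
  rcases h _ h1 with h0 | h0
  · right
    exact IsNilpotent.isUnit_one_sub ⟨n, h0⟩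
  · left
    exact IsUnit.of_pow_eq_one h0 hn.ne'

/-- A finite local principal ideal ring has an element `c ≠ 0` contained in every nonzero ideal. -/
theorem exists_socle {A : Type*} [CommRing A] [Finite A] [IsLocalRing A] [IsPrincipalIdealRing A] :
    ∃ c : A, c ≠ 0 ∧ ∀ I : Ideal A, I ≠ ⊥ → c ∈ I := by
  classical
  obtain ⟨p, hp⟩ := (IsPrincipalIdealRing.principal (IsLocalRing.maximalIdeal A)).principal
  have hp1 : ∀ a : A, ¬ IsUnit a → ∃ b, a = p * b := by
    intro a ha
    have h1 : a ∈ IsLocalRing.maximalIdeal A := ha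
    rw [hp] at h1
    exact Ideal.mem_span_singleton.mp h1
  have hp2 : ¬ IsUnit p := by
    have h1 : p ∈ IsLocalRing.maximalIdeal A := by
      rw [hp]
      exact Submodule.mem_span_singleton_self p
    exact h1
  -- `p` is nilpotent
  have hnil : ∃ n, p ^ n = 0 := by
    obtain ⟨n, hn, h1⟩ := exists_pow_idem p
    refine ⟨n, ?_⟩
    have h2 : p ^ n * (1 - p ^ n) = 0 := by rw [mul_sub, mul_one, h1, sub_self]
    have h3 : IsUnit (1 - p ^ n) := by
      rcases IsLocalRing.isUnit_or_isUnit_one_sub_self (p ^ n) with h | h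
      · exact absurd (isUnit_pow_iff hn.ne' |>.mp h) hp2
      · exact h
    exact (IsUnit.mul_left_eq_zero h3).mp h2
  let N := Nat.find hnil
  have hN : p ^ N = 0 := Nat.find_spec hnil
  have hN' : ∀ m, m < N → p ^ m ≠ 0 := fun m hm => Nat.find_min hnil hm
  have hN0 : 0 < N := by
    rcases Nat.eq_zero_or_pos N with h | h
    · rw [h, pow_zero] at hN
      exact absurd hN one_ne_zero
    · exact h
  refine ⟨p ^ (N - 1), hN' _ (by omega), fun I hI => ?_⟩
  obtain ⟨a, haI, ha0⟩ := Submodule.exists_mem_ne_zero_of_ne_bot hI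
  -- write `a = p ^ k * u`
  have key : ∀ k : ℕ, (∃ b, a = p ^ k * b) ∨ ∃ j, j < k ∧ ∃ u, IsUnit u ∧ a = p ^ j * u := by
    intro k
    induction k with
    | zero => exact Or.inl ⟨a, by rw [pow_zero, one_mul]⟩
    | succ k ih =>
      rcases ih with ⟨b, hb⟩ | ⟨j, hj, u, hu, h⟩
      · by_cases hb1 : IsUnit b
        · exact Or.inr ⟨k, Nat.lt_succ_self k, b, hb1, hb⟩
        · obtain ⟨c, hc⟩ := hp1 b hb1
          exact Or.inl ⟨c, by rw [hb, hc, pow_succ, mul_assoc]⟩
      · exact Or.inr ⟨j, Nat.lt_succ_of_lt hj, u, hu, h⟩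
  rcases key N with ⟨b, hb⟩ | ⟨j, hj, u, hu, h⟩
  · rw [hN, zero_mul] at hb
    exact absurd hb ha0
  · obtain ⟨w, hw⟩ := hu.exists_right_inv
    have h1 : p ^ (N - 1) = (p ^ (N - 1 - j) * w) * a := by
      rw [h]
      have h2 : p ^ (N - 1 - j) * w * (p ^ j * u) = p ^ (N - 1 - j) * p ^ j * (u * w) := by ring
      rw [h2, hw, mul_one, ← pow_add]
      congr 1
      omega
    rw [h1]
    exact I.mul_mem_left _ haI

end Ring

section Core

variable {F V : Type*} [Field F] [AddCommGroup V] [Module F V] {q : ℕ} {σ : F →+* F}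
  {B : V →ₛₗ[σ] V →ₗ[F] F}

theorem smul_left_form (c : F) (u v : V) : B (c • u) v = σ c * B u v := by
  rw [LinearMap.map_smulₛₗ₂, smul_eq_mul]

theorem HS_ext_right [Finite F] (h : HS q σ B) {x : V} (hx : ∀ y, B y x = 0) : x = 0 :=
  h.ext fun y => h.zero_symm (hx y)

/-- nondegenerate subspaces: decomposition -/
theorem isCompl_perp [Finite F] [Finite V] (h : HS q σ B) (W : Submodule F V)
    (hW : ∀ x ∈ W, (∀ y ∈ W, B y x = 0) → x = 0) : IsCompl W (perp B W) := by
  rw [isCompl_iff, disjoint_iff_inf_le, codisjoint_iff_le_sup]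
  refine ⟨fun x hx => ?_, fun v _ => ?_⟩
  · rw [Submodule.mem_bot]
    exact hW x hx.1 fun y hy => hx.2 y hy
  · obtain ⟨x, hx, hx'⟩ := Cfsg.Agent.ClassicalGeometry.HermWitt.exists_perp σ B W
      (fun x hx hxy => hW x hx fun y hy => h.zero_symm (hxy y hy)) v
    have h1 : v = x + (v - x) := by abel
    rw [h1]
    exact Submodule.add_mem_sup hx fun w hw => h.zero_symm (hx' w hw)

theorem perp_nondeg [Finite F] [Finite V] (h : HS q σ B) (W : Submodule F V)
    (hW : ∀ x ∈ W, (∀ y ∈ W, B y x = 0) → x = 0) :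
    ∀ x ∈ perp B W, (∀ y ∈ perp B W, B y x = 0) → x = 0 := by
  intro x hx hxy
  refine HS_ext_right h fun v => ?_
  have hv : v ∈ W ⊔ perp B W := by
    rw [(isCompl_perp h W hW).sup_eq_top]
    exact Submodule.mem_top
  obtain ⟨w, hw, u, hu, rfl⟩ := Submodule.mem_sup.mp hv
  rw [map_add, LinearMap.add_apply, hx w hw, hxy u hu, add_zero]

theorem finrank_add_perp [Finite F] [Finite V] (h : HS q σ B) (W : Submodule F V)
    (hW : ∀ x ∈ W, (∀ y ∈ W, B y x = 0) → x = 0) :
    finrank F W + finrank F (perp B W) = finrank F V :=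
  Submodule.finrank_add_eq_of_isCompl (isCompl_perp h W hW)

/-- totally singular submodules have dimension at most one half -/
theorem two_mul_finrank_le [Finite F] [Finite V] (h : HS q σ B) (E : Submodule F V)
    (hE : ∀ x ∈ E, ∀ y ∈ E, B x y = 0) : 2 * finrank F E ≤ finrank F V := by
  have : FiniteDimensional F V := inferInstance
  -- `V → Dual E` is surjective (semilinear); count
  have hsurj : Function.Surjective (fun w : V => ((B w).domRestrict E : Dual F E)) := by
    intro ℓ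
    obtain ⟨w, hw⟩ := Cfsg.Agent.ClassicalGeometry.HermWitt.exists_represent σ B h.sep E.subtype
      (Submodule.injective_subtype E) ℓ
    exact ⟨w, LinearMap.ext hw⟩
  -- `E` lies in the kernel
  have hq : 1 < Nat.card F := by
    rw [h.card]
    exact Nat.one_lt_pow (by norm_num) h.two_le
  let ψ : V →+ Dual F E := 
    { toFun := fun w => (B w).domRestrict E
      map_zero' := by
        ext x
        show B 0 (x : V) = 0
        rw [map_zero, LinearMap.zero_apply]
      map_add' := fun a b => by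
        ext x
        show B (a + b) (x : V) = B a x + B b x
        rw [map_add, LinearMap.add_apply] }
  have h1 : Nat.card (V ⧸ ψ.ker) = Nat.card (Dual F E) :=
    Nat.card_congr (QuotientAddGroup.quotientKerEquivOfSurjective ψ hsurj).toEquiv
  have h2 : Nat.card V = Nat.card (V ⧸ ψ.ker) * Nat.card ψ.ker :=
    AddSubgroup.card_eq_card_quotient_mul_card_addSubgroup _
  have h3 : Nat.card E ≤ Nat.card ψ.ker := by
    have hle : E.toAddSubgroup ≤ ψ.ker := by
      intro x hx
      rw [AddMonoidHom.mem_ker]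
      ext y
      exact hE x hx y y.2
    exact Nat.card_le_card_of_injective (fun x : E => (⟨x, hle x.2⟩ : ψ.ker))
      (fun a b hab => Subtype.ext (congrArg (fun z : ψ.ker => (z : V)) hab))
  have h4 : Nat.card (Dual F E) = Nat.card E :=
    Nat.card_congr ((Module.finBasis F E).toDualEquiv).toEquiv.symm
  have h5 : Nat.card E * Nat.card E ≤ Nat.card V := by
    rw [h2, h1, h4]
    exact Nat.mul_le_mul_left _ h3
  rw [Module.natCard_eq_pow_finrank (K := F) (V := E), Module.natCard_eq_pow_finrank (K := F) (V := V),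
    ← pow_add] at h5
  have h6 := (Nat.pow_le_pow_iff_right hq).mp h5
  omega

variable {A : Type*} [CommRing A] [Finite A] [Algebra F A] [Module A V] [IsScalarTower F A V]
  [FaithfulSMul A V]

omit [Finite A] in
theorem ext_of_smul {a b : A} (hab : ∀ v : V, a • v = b • v) : a = b := FaithfulSMul.eq_of_smul_eq_smul hab

/-- the submodule `a V` -/
def img (F : Type*) (V : Type*) [Field F] [AddCommGroup V] [Module F V] {A : Type*} [CommRing A] [Algebra F A]
    [Module A V] [IsScalarTower F A V] (a : A) : Submodule F V where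
  carrier := {v | ∃ u : V, a • u = v}
  add_mem' := by
    rintro _ _ ⟨u, rfl⟩ ⟨v, rfl⟩
    exact ⟨u + v, smul_add _ _ _⟩
  zero_mem' := ⟨0, smul_zero _⟩
  smul_mem' := by
    rintro c _ ⟨u, rfl⟩
    exact ⟨c • u, by
      rw [← algebraMap_smul A c u, ← algebraMap_smul A c (a • u), smul_smul, smul_smul, mul_comm]⟩

omit [Finite A] in
/-- a self-adjoint idempotent is trivial -/
theorem selfadjoint_idem [Finite F] [Finite V] (h : HS q σ B) (hodd : Odd (finrank F V)) (s : A ≃+* A)
    (hs : ∀ (a : A) (u v : V), B (a • u) v = B u (s a • v))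
    (hmin : ∀ W : Submodule F V, (∀ (a : A), ∀ w ∈ W, a • w ∈ W) → (∀ x ∈ W, (∀ y ∈ W, B y x = 0) → x = 0) →
      Odd (finrank F W) → W = ⊤)
    (f : A) (hf : f * f = f) (hsf : s f = f) : f = 0 ∨ f = 1 := by
  -- general facts for a self-adjoint idempotent
  have gen : ∀ f : A, f * f = f → s f = f →
      (∀ (a : A), ∀ w ∈ img F V f, a • w ∈ img F V f) ∧
      (∀ x ∈ img F V f, (∀ y ∈ img F V f, B y x = 0) → x = 0) ∧
      perp B (img F V f) = img F V (1 - f) ∧ (img F V f = ⊤ → f = 1) := by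
    intro f hf hsf
    refine ⟨?_, ?_, ?_, ?_⟩
    · rintro a _ ⟨u, rfl⟩
      exact ⟨a • u, by rw [smul_smul, smul_smul, mul_comm]⟩
    · rintro _ ⟨u, rfl⟩ hy
      refine HS_ext_right h fun v => ?_
      have h1 := hy (f • v) ⟨v, rfl⟩
      rwa [hs, hsf, smul_smul, hf] at h1
    · ext v
      constructor
      · intro hv
        have h1 : f • v = 0 := by
          refine HS_ext_right h fun u => ?_
          have h2 := hv (f • u) ⟨u, rfl⟩
          rwa [hs, hsf] at h2
        exact ⟨v, by rw [sub_smul, one_smul, h1, sub_zero]⟩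
      · rintro ⟨u, rfl⟩ _ ⟨w, rfl⟩
        rw [hs, hsf, smul_smul, mul_sub, mul_one, hf, sub_self, zero_smul, map_zero]
    · intro ht
      refine ext_of_smul (V := V) fun v => ?_
      have h1 : v ∈ img F V f := by rw [ht]; exact Submodule.mem_top
      obtain ⟨u, rfl⟩ := h1
      rw [smul_smul, hf, one_smul]
  obtain ⟨g1, g2, g3, g4⟩ := gen f hf hsf
  have hf' : (1 - f) * (1 - f) = 1 - f := by
    have : (1 - f) * (1 - f) = 1 - f - f + f * f := by ring
    rw [this, hf]
    ring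
  have hsf' : s (1 - f) = 1 - f := by rw [map_sub, map_one, hsf]
  obtain ⟨k1, k2, k3, k4⟩ := gen (1 - f) hf' hsf'
  have hdim := finrank_add_perp h _ g2
  rw [g3] at hdim
  rw [← hdim] at hodd
  rcases Nat.even_or_odd (finrank F (img F V f)) with he | ho
  · left
    have ho' : Odd (finrank F (img F V (1 - f))) := by
      by_contra hno
      rw [Nat.not_odd_iff_even] at hno
      exact (Nat.not_odd_iff_even.mpr (he.add hno)) hodd
    have h1 := k4 (hmin _ k1 k2 ho')
    linear_combination -h1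
  · right
    exact g4 (hmin _ g1 g2 ho)

theorem core_local [Finite F] [Finite V] (h : HS q σ B) (hodd : Odd (finrank F V)) (s : A ≃+* A)
    (hs : ∀ (a : A) (u v : V), B (a • u) v = B u (s a • v))
    (hmin : ∀ W : Submodule F V, (∀ (a : A), ∀ w ∈ W, a • w ∈ W) → (∀ x ∈ W, (∀ y ∈ W, B y x = 0) → x = 0) →
      Odd (finrank F W) → W = ⊤) : IsLocalRing A := by
  have hV : Nontrivial V := by
    by_contra hn
    rw [not_nontrivial_iff_subsingleton] at hn
    rw [finrank_zero_of_subsingleton] at hodd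
    exact absurd hodd (by decide)
  have hA : Nontrivial A := by
    refine ⟨0, 1, fun h01 => ?_⟩
    obtain ⟨v, hv⟩ := exists_ne (0 : V)
    exact hv (by rw [← one_smul A v, ← h01, zero_smul])
  have hss : ∀ a, s (s a) = a := by
    intro a
    refine ext_of_smul (V := V) fun v => ?_
    have h1 : s (s a) • v - a • v = 0 := by
      refine HS_ext_right h fun u => ?_
      rw [map_sub, ← hs, ← h.sy v (s a • u), ← hs, h.sy, sub_self]
    exact sub_eq_zero.mp h1
  refine isLocalRing_of_idem fun e he => ?_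
  have hse : s e * s e = s e := by rw [← map_mul, he]
  have h1 : (e * s e) * (e * s e) = e * s e := by
    have : (e * s e) * (e * s e) = (e * e) * (s e * s e) := by ring
    rw [this, he, hse]
  have h2 : s (e * s e) = e * s e := by rw [map_mul, hss, mul_comm]
  rcases selfadjoint_idem h hodd s hs hmin _ h1 h2 with h0 | h0
  · -- `e * s e = 0`
    have h3 : (e + s e) * (e + s e) = e + s e := by
      have : (e + s e) * (e + s e) = e * e + s e * s e + 2 * (e * s e) := by ring
      rw [this, he, hse, h0]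
      ring
    have h4 : s (e + s e) = e + s e := by rw [map_add, hss, add_comm]
    rcases selfadjoint_idem h hodd s hs hmin _ h3 h4 with h5 | h5
    · left
      calc e = e * (e + s e) := by rw [mul_add, he, h0, add_zero]
        _ = 0 := by rw [h5, mul_zero]
    · -- swapped idempotents: even dimension
      exfalso
      have ts : ∀ e : A, e * s e = 0 → ∀ x ∈ img F V e, ∀ y ∈ img F V e, B x y = 0 := by
        rintro e h0 _ ⟨u, rfl⟩ _ ⟨v, rfl⟩
        rw [hs, smul_smul, mul_comm, h0, zero_smul, map_zero]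
      have d1 := two_mul_finrank_le h _ (ts e h0)
      have d2 := two_mul_finrank_le h _ (ts (s e) (by rw [hss, mul_comm, h0]))
      have hc : IsCompl (img F V e) (img F V (s e)) := by
        rw [isCompl_iff, disjoint_iff_inf_le, codisjoint_iff_le_sup]
        refine ⟨?_, fun v _ => ?_⟩
        · rintro _ ⟨⟨u, rfl⟩, ⟨w, hw⟩⟩
          rw [Submodule.mem_bot]
          have h6 : e • u = e • (e • u) := by rw [smul_smul, he]
          rw [h6, ← hw, smul_smul, h0, zero_smul]
        · have h6 : v = e • v + s e • v := by rw [← add_smul, h5, one_smul]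
          rw [h6]
          exact Submodule.add_mem_sup ⟨v, rfl⟩ ⟨v, rfl⟩
      have d3 := Submodule.finrank_add_eq_of_isCompl hc
      obtain ⟨k, hk⟩ := hodd
      omega
  · right
    calc e = e * (e * s e) := by rw [h0, mul_one]
      _ = (e * e) * s e := by ring
      _ = 1 := by rw [he, h0]

theorem core_cyclic [Finite F] [Finite V] [IsPrincipalIdealRing A] [IsLocalRing A] (h : HS q σ B)
    (hodd : Odd (finrank F V)) (s : A ≃+* A)
    (hs : ∀ (a : A) (u v : V), B (a • u) v = B u (s a • v))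
    (hmin : ∀ W : Submodule F V, (∀ (a : A), ∀ w ∈ W, a • w ∈ W) → (∀ x ∈ W, (∀ y ∈ W, B y x = 0) → x = 0) →
      Odd (finrank F W) → W = ⊤) : ∃ v : V, Function.Bijective (fun a : A => a • v) := by
  obtain ⟨c, hc0, hc⟩ := exists_socle (A := A)
  obtain ⟨v, hv⟩ : ∃ v : V, B v (c • v) ≠ 0 := by
    by_contra hno
    push Not at hno
    have key : ∀ u v : V, B u (c • v) + B v (c • u) = 0 := by
      intro u v
      have h1 := hno (u + v)
      rw [smul_add, map_add, map_add, LinearMap.add_apply, LinearMap.add_apply, hno u, hno v] at h1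
      linear_combination h1
    obtain ⟨a, ha⟩ : ∃ a : F, σ a ≠ a := by
      by_contra hh
      push Not at hh
      exact h.ne_id (RingHom.ext hh)
    apply hc0
    refine ext_of_smul (V := V) fun v => ?_
    rw [zero_smul]
    refine HS_ext_right h fun u => ?_
    have h1 := key (a • u) v
    have h2 : c • a • u = a • c • u := by
      rw [← algebraMap_smul A a u, ← algebraMap_smul A a (c • u), smul_smul, smul_smul, mul_comm]
    rw [h2, smul_left_form, (B v).map_smul, smul_eq_mul] at h1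
    have h3 := key u v
    have h4 : (σ a - a) * B u (c • v) = 0 := by linear_combination h1 - a * h3
    exact (mul_eq_zero.mp h4).resolve_left (sub_ne_zero.mpr ha)
  -- the submodule `A v`
  let W : Submodule F V :=
    { carrier := {w | ∃ a : A, a • v = w}
      add_mem' := by
        rintro _ _ ⟨a, rfl⟩ ⟨b, rfl⟩
        exact ⟨a + b, add_smul _ _ _⟩
      zero_mem' := ⟨0, zero_smul _ _⟩
      smul_mem' := by
        rintro k _ ⟨a, rfl⟩
        exact ⟨algebraMap F A k * a, by rw [mul_smul, algebraMap_smul]⟩ }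
  have hWinv : ∀ (a : A), ∀ w ∈ W, a • w ∈ W := by
    rintro a _ ⟨b, rfl⟩
    exact ⟨a * b, mul_smul _ _ _⟩
  have hWnd : ∀ x ∈ W, (∀ y ∈ W, B y x = 0) → x = 0 := by
    rintro _ ⟨a, rfl⟩ hy
    let J : Ideal A :=
      { carrier := {a | ∀ b : A, B v ((b * a) • v) = 0}
        add_mem' := by
          intro a b ha hb d
          rw [mul_add, add_smul, map_add, ha, hb, add_zero]
        zero_mem' := fun d => by rw [mul_zero, zero_smul, map_zero]
        smul_mem' := by
          intro d a ha e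
          rw [smul_eq_mul, ← mul_assoc]
          exact ha _ }
    have hJ : J = ⊥ := by
      by_contra hne
      have h1 := hc J hne 1
      rw [one_mul] at h1
      exact hv h1
    have haJ : a ∈ J := by
      intro b
      have h1 := hy (s.symm b • v) ⟨_, rfl⟩
      rwa [hs, s.apply_symm_apply, smul_smul] at h1
    rw [hJ, Submodule.mem_bot] at haJ
    rw [haJ, zero_smul]
  have hinj : Function.Injective (fun a : A => a • v) := by
    intro a b hab
    have hab' : a • v = b • v := hab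
    let J : Ideal A :=
      { carrier := {a | a • v = 0}
        add_mem' := by
          intro a b ha hb
          show (a + b) • v = 0
          rw [add_smul, ha, hb, add_zero]
        zero_mem' := zero_smul _ _
        smul_mem' := by
          intro d a ha
          show (d * a) • v = 0
          rw [mul_smul, ha, smul_zero] }
    have hJ : J = ⊥ := by
      by_contra hne
      have h1 : c • v = 0 := hc J hne
      rw [h1, map_zero] at hv
      exact hv rfl
    have h1 : a - b ∈ J := by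
      show (a - b) • v = 0
      rw [sub_smul, hab', sub_self]
    rw [hJ, Submodule.mem_bot] at h1
    exact sub_eq_zero.mp h1
  have hvW : v ∈ W := ⟨1, one_smul _ _⟩
  have hdim := finrank_add_perp h W hWnd
  have hWtop : W = ⊤ := by
    rcases Nat.even_or_odd (finrank F W) with he | ho
    · exfalso
      have ho' : Odd (finrank F (perp B W)) := by
        by_contra hno
        rw [Nat.not_odd_iff_even] at hno
        rw [← hdim] at hodd
        exact (Nat.not_odd_iff_even.mpr (he.add hno)) hodd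
      have h1 : perp B W = ⊤ := by
        refine hmin _ (fun a w hw u hu => ?_) (perp_nondeg h W hWnd) ho'
        have h2 := hw (s.symm a • u) (hWinv _ u hu)
        rwa [hs, s.apply_symm_apply] at h2
      have h2 : v = 0 := by
        refine hWnd v hvW fun y hy => ?_
        have h3 : v ∈ perp B W := by rw [h1]; exact Submodule.mem_top
        exact h3 y hy
      rw [h2, smul_zero, map_zero] at hv
      exact hv rfl
    · exact hmin W hWinv hWnd ho
  refine ⟨v, hinj, fun w => ?_⟩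
  have : w ∈ W := by rw [hWtop]; exact Submodule.mem_top
  exact this

end Core

end Cfsg.Agent.H984.CC
end

-- part: H984/CC/Loc1
section
/-!
# S4793 [LOC1]: `exists_Y` from `loc_sum`

For every `x` in a unitary group of odd dimension there is a subgroup `Y` of the centralizer with `∑_{y ∈ Y} wf q y = 0`.
-/

set_option autoImplicit false

open Cfsg

namespace Cfsg.Agent.H984.CC

open Module Cfsg.Agent.H603.CC

universe u v

section Adj

variable {F V : Type*} [Field F] [AddCommGroup V] [Module F V] {q : ℕ} {σ : F →+* F}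
  {B : V →ₛₗ[σ] V →ₗ[F] F} {A : Type*} [CommRing A] [Algebra F A] [Module A V] [IsScalarTower F A V]
  [FaithfulSMul A V]

omit [Algebra F A] [IsScalarTower F A V] in
theorem adj_unique [Finite F] (h : HS q σ B) {a b : A} (hab : ∀ u v : V, B u (a • v) = B u (b • v)) : a = b := by
  refine ext_of_smul (V := V) fun v => ?_
  refine sub_eq_zero.mp (HS_ext_right h fun u => ?_)
  rw [map_sub, hab, sub_self]

theorem exists_adj_equiv [Finite F] (h : HS q σ B) (hex : ∀ a : A, ∃ b : A, ∀ u v : V, B (a • u) v = B u (b • v)) :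
    ∃ s : A ≃+* A, (∀ (a : A) (u v : V), B (a • u) v = B u (s a • v)) ∧ (∀ a, s (s a) = a) ∧
      ∀ c : F, s (algebraMap F A c) = algebraMap F A (c ^ q) := by
  choose s hs using hex
  have hss : ∀ a, s (s a) = a := by
    intro a
    refine adj_unique (V := V) h fun u v => ?_
    rw [← hs, ← h.sy v (s a • u), ← hs, h.sy]
  refine ⟨{ toFun := s, invFun := s, left_inv := hss, right_inv := hss, map_mul' := ?_, map_add' := ?_ }, hs, hss, ?_⟩
  · intro a b
    refine adj_unique (V := V) h fun u v => ?_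
    rw [← hs, mul_smul, hs, hs, smul_smul, mul_comm]
  · intro a b
    refine adj_unique (V := V) h fun u v => ?_
    rw [← hs, add_smul, map_add, LinearMap.add_apply, hs, hs, add_smul, map_add]
  · intro c
    refine adj_unique (V := V) h fun u v => ?_
    show B u (s (algebraMap F A c) • v) = _
    rw [← hs, algebraMap_smul, algebraMap_smul, smul_left_form, map_smul, smul_eq_mul, h.sig]

end Adj

section Glue

variable {F V : Type*} [Field F] [AddCommGroup V] [Module F V] {q : ℕ} {σ : F →+* F}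
  {B : V →ₛₗ[σ] V →ₗ[F] F} {W : Submodule F V}

theorem exists_glue (h : HS q σ B) [Finite F] (hc : IsCompl W (perp B W)) (e : W ≃ₗ[F] W)
    (he : ∀ u v : W, B (e u : V) (e v : V) = B (u : V) (v : V)) :
    ∃ g : UU B, (∀ w : W, ac B g w = e w) ∧ ∀ u ∈ perp B W, ac B g u = u := by
  let P := Submodule.prodEquivOfIsCompl W (perp B W) hc
  let g : V ≃ₗ[F] V := P.symm ≪≫ₗ (e.prodCongr (LinearEquiv.refl F (perp B W))) ≪≫ₗ P
  have hg : ∀ (w : W) (u : perp B W), g ((w : V) + u) = (e w : V) + u := by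
    intro w u
    show P ((e.prodCongr (LinearEquiv.refl F (perp B W))) (P.symm ((w : V) + u))) = _
    have h1 : P.symm ((w : V) + u) = (w, u) := by
      rw [LinearEquiv.symm_apply_eq]
      rfl
    rw [h1]
    rfl
  have hd : ∀ v : V, ∃ (w : W) (u : perp B W), v = (w : V) + u := by
    intro v
    obtain ⟨⟨w, u⟩, hwu⟩ := P.surjective v
    exact ⟨w, u, hwu.symm⟩
  refine ⟨mkU g fun x y => ?_, fun w => ?_, fun u hu => ?_⟩
  · obtain ⟨w, u, rfl⟩ := hd x
    obtain ⟨w', u', rfl⟩ := hd y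
    rw [hg, hg]
    have h1 : ∀ (a : W) (b : perp B W), B (a : V) (b : V) = 0 := fun a b => b.2 a a.2
    have h2 : ∀ (a : W) (b : perp B W), B (b : V) (a : V) = 0 := fun a b => h.zero_symm (h1 a b)
    simp only [map_add, LinearMap.add_apply, h1, h2, he]
  · rw [ac_mkU]
    have h1 := hg w 0
    simpa using h1
  · rw [ac_mkU]
    have h1 := hg 0 ⟨u, hu⟩
    simpa using h1

end Glue

section YY

variable {F : Type u} {V : Type v} [Field F] [AddCommGroup V] [Module F V] {q : ℕ} {σ : F →+* F}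
  (B : V →ₛₗ[σ] V →ₗ[F] F) [Finite F] [Finite V] (W : Submodule F V)
  (A : Type*) [CommRing A] [Algebra F A] [Module A W] [IsScalarTower F A W]

omit [Finite F] [Finite V] [Algebra F A] [IsScalarTower F A W] in
theorem act_pow (y : UU B) (a : A)
    (ha : ∀ w : W, ac B y w = (a • w : W)) (n : ℕ) (w : W) : ac B (y ^ n) w = (a ^ n • w : W) := by
  induction n generalizing w with
  | zero => rw [pow_zero, pow_zero, one_smul]; rfl
  | succ n ih => rw [pow_succ, ac_mul, ha, ih, pow_succ, mul_smul]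

/-- The group of unitary transformations acting as elements of `A` on `W` and trivially on the orthogonal complement. -/
def YY : Subgroup (UU B) where
  carrier := {y | (∀ u ∈ perp B W, ac B y u = u) ∧ ∃ a : A, ∀ w : W, ac B y w = (a • w : W)}
  mul_mem' := by
    rintro y z ⟨hy, a, ha⟩ ⟨hz, b, hb⟩
    refine ⟨fun u hu => by rw [ac_mul, hz u hu, hy u hu], a * b, fun w => ?_⟩
    rw [ac_mul, hb, ha, mul_smul]
  one_mem' := ⟨fun u _ => rfl, 1, fun w => by rw [one_smul]; rfl⟩
  inv_mem' := by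
    rintro y ⟨hy, a, ha⟩
    refine ⟨fun u hu => ?_, a ^ (orderOf y - 1), fun w => ?_⟩
    · have h := ac_inv_ac y u
      rwa [hy u hu] at h
    · have h1 : y⁻¹ = y ^ (orderOf y - 1) := by
        rw [inv_eq_iff_mul_eq_one, ← pow_succ', Nat.sub_add_cancel (orderOf_pos y), pow_orderOf_eq_one]
      rw [h1, act_pow B W A y a ha]

variable {B W A}

omit [Finite F] [Algebra F A] [IsScalarTower F A W] in
theorem mem_YY {y : UU B} : y ∈ YY B W A ↔
    (∀ u ∈ perp B W, ac B y u = u) ∧ ∃ a : A, ∀ w : W, ac B y w = (a • w : W) := Iff.rfl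

omit [Finite F] [Finite V] [Algebra F A] [IsScalarTower F A W] in
theorem ext_of_decomp (hc : IsCompl W (perp B W)) {g k : UU B} (h1 : ∀ w : W, ac B g w = ac B k w)
    (h2 : ∀ u ∈ perp B W, ac B g u = ac B k u) : g = k := by
  refine ac_ext fun v => ?_
  have hv : v ∈ W ⊔ perp B W := by
    rw [hc.sup_eq_top]
    exact Submodule.mem_top
  obtain ⟨w, hw, u, hu, rfl⟩ := Submodule.mem_sup.mp hv
  rw [ac_add, ac_add, h2 u hu, h1 ⟨w, hw⟩]

omit [Finite F] in
theorem finrank_fx (hc : IsCompl W (perp B W)) {y : UU B} (hy : ∀ u ∈ perp B W, ac B y u = u)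
    {a : A} (ha : ∀ w : W, ac B y w = (a • w : W)) {v : W} (hv : Function.Bijective (fun a : A => a • v)) :
    finrank F (fx y) = finrank F (LinearMap.ker (LinearMap.mulLeft F (a - 1))) + finrank F (perp B W) := by
  let φ : A ≃ₗ[F] W := LinearEquiv.ofBijective
    { toFun := fun a : A => a • v
      map_add' := fun a b => add_smul _ _ _
      map_smul' := fun c a => by rw [RingHom.id_apply, smul_assoc] } hv
  have hφ : ∀ b : A, φ b = b • v := fun b => rfl
  let K : Submodule F A := LinearMap.ker (LinearMap.mulLeft F (a - 1))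
  have hK : ∀ b : A, b ∈ K ↔ a • φ b = φ b := by
    intro b
    rw [LinearMap.mem_ker, LinearMap.mulLeft_apply, sub_mul, one_mul, sub_eq_zero, hφ, smul_smul]
    exact ⟨fun h => by rw [h], fun h => hv.1 h⟩
  have h1 : fx y = (K.map (W.subtype ∘ₗ φ.toLinearMap)) ⊔ perp B W := by
    apply le_antisymm
    · intro x hx
      have hx' : ac B y x = x := hx
      have hxs : x ∈ W ⊔ perp B W := by
        rw [hc.sup_eq_top]
        exact Submodule.mem_top
      obtain ⟨w, hw, u, hu, rfl⟩ := Submodule.mem_sup.mp hxs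
      refine Submodule.add_mem_sup ?_ hu
      obtain ⟨b, hb⟩ := φ.surjective ⟨w, hw⟩
      refine ⟨b, (hK b).mpr ?_, ?_⟩
      · rw [ac_add, hy u hu, ha ⟨w, hw⟩] at hx'
        rw [hb]
        exact Subtype.ext (add_right_cancel hx')
      · show ((φ b : W) : V) = w
        rw [hb]
    · rw [sup_le_iff]
      refine ⟨?_, fun u hu => hy u hu⟩
      rintro _ ⟨b, hb, rfl⟩
      show ac B y ((φ b : W) : V) = ((φ b : W) : V)
      rw [ha, (hK b).mp hb]
  have h2 : (K.map (W.subtype ∘ₗ φ.toLinearMap)) ⊓ perp B W = ⊥ := by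
    rw [eq_bot_iff, ← hc.inf_eq_bot]
    refine inf_le_inf_right _ ?_
    rintro _ ⟨b, hb, rfl⟩
    exact (φ b).2
  have h3 := Submodule.finrank_sup_add_finrank_inf_eq (K.map (W.subtype ∘ₗ φ.toLinearMap)) (perp B W)
  rw [h2, finrank_bot, add_zero, ← h1] at h3
  rw [h3]
  congr 1
  exact (Submodule.equivMapOfInjective (W.subtype ∘ₗ φ.toLinearMap)
    ((Submodule.injective_subtype W).comp φ.injective) K).finrank_eq.symm

theorem sum_YY (h : HS q σ B) (hc : IsCompl W (perp B W)) [Finite A] [FaithfulSMul A W] (s : A ≃+* A)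
    (hs : ∀ (a : A) (u v : W), B ((a • u : W) : V) (v : V) = B (u : V) ((s a • v : W) : V))
    {v : W} (hv : Function.Bijective (fun a : A => a • v))
    (h0 : ∑ᶠ y : {y : A // y * s y = 1},
      (-(q : ℂ)) ^ finrank F (LinearMap.ker (LinearMap.mulLeft F ((y : A) - 1))) = 0) :
    ∑ᶠ y : YY B W A, wf q (y : UU B) = 0 := by
  have hnd : ∀ x y : W, (∀ u : W, B (u : V) (x : V) = B (u : V) (y : V)) → x = y := by
    intro x y hxy
    have h1 : ((x - y : W) : V) ∈ W ⊓ perp B W := by
      refine ⟨(x - y).2, fun u hu => ?_⟩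
      rw [Submodule.coe_sub, map_sub, hxy ⟨u, hu⟩, sub_self]
    rw [hc.inf_eq_bot, Submodule.mem_bot] at h1
    exact sub_eq_zero.mp (Subtype.ext h1)
  have hmul : ∀ a : A, (∀ u v : W, B ((a • u : W) : V) ((a • v : W) : V) = B (u : V) (v : V)) ↔ a * s a = 1 := by
    intro a
    constructor
    · intro ha
      refine ext_of_smul (V := W) fun w => hnd _ _ fun u => ?_
      rw [mul_comm, mul_smul, ← hs, ha, one_smul]
    · intro ha u v
      rw [hs, smul_smul, mul_comm, ha, one_smul]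
  -- the elements attached to the norm one elements
  have hex : ∀ a : {y : A // y * s y = 1}, ∃ y : UU B, (∀ u ∈ perp B W, ac B y u = u) ∧
      ∀ w : W, ac B y w = ((a : A) • w : W) := by
    rintro ⟨a, ha⟩
    let e : W ≃ₗ[F] W :=
      { toFun := fun w => a • w
        invFun := fun w => s a • w
        left_inv := fun w => by
          show s a • a • w = w
          rw [smul_smul, mul_comm, ha, one_smul]
        right_inv := fun w => by
          show a • s a • w = w
          rw [smul_smul, ha, one_smul]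
        map_add' := fun x y => smul_add _ _ _
        map_smul' := fun c x => by
          rw [RingHom.id_apply, ← algebraMap_smul A c x, ← algebraMap_smul A c (a • x), smul_smul, smul_smul,
            mul_comm] }
    obtain ⟨g, hg1, hg2⟩ := exists_glue h hc e ((hmul a).mpr ha)
    exact ⟨g, hg2, hg1⟩
  choose g hg1 hg2 using hex
  let G : {y : A // y * s y = 1} → YY B W A := fun a => ⟨g a, hg1 a, a, hg2 a⟩
  have hG : Function.Bijective G := by
    constructor
    · intro a b hab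
      have h1 : g a = g b := congrArg Subtype.val hab
      refine Subtype.ext (ext_of_smul (V := W) fun w => Subtype.ext ?_)
      rw [← hg2, ← hg2, h1]
    · rintro ⟨y, hy, a, ha⟩
      have h1 : a * s a = 1 := by
        rw [← hmul]
        intro u v
        rw [← ha, ← ha, form_ac]
      refine ⟨⟨a, h1⟩, Subtype.ext ?_⟩
      refine ext_of_decomp hc (fun w => ?_) fun u hu => ?_
      · show ac B (g ⟨a, h1⟩) w = ac B y w
        rw [hg2, ha]
      · show ac B (g ⟨a, h1⟩) u = ac B y u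
        rw [hg1 _ u hu, hy u hu]
  have h1 : ∑ᶠ a : {y : A // y * s y = 1},
      (-(q : ℂ)) ^ finrank F (LinearMap.ker (LinearMap.mulLeft F ((a : A) - 1))) * (-(q : ℂ)) ^ finrank F (perp B W) =
      ∑ᶠ y : YY B W A, wf q (y : UU B) := by
    refine finsum_eq_of_bijective G hG fun a => ?_
    rw [← pow_add, ← finrank_fx hc (hg1 a) (hg2 a) hv]
    rfl
  rw [← h1, ← finsum_mul' _ _ (Set.toFinite _), h0, zero_mul]

end YY

section Main

open scoped IsMulCommutative

variable {F : Type u} [Field F] [Finite F]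

omit [Finite F] in
/-- The algebra generated by one endomorphism. -/
theorem exists_alg {W : Type v} [AddCommGroup W] [Module F W] [Finite W] (γ : Module.End F W) :
    ∃ (A : Type v) (_ : CommRing A) (_ : Finite A) (_ : Algebra F A) (_ : Module A W) (_ : IsScalarTower F A W)
      (_ : FaithfulSMul A W) (_ : IsPrincipalIdealRing A) (g : A), (∀ w : W, g • w = γ w) ∧
      ∀ P : A → Prop, P g → (∀ c : F, P (algebraMap F A c)) → (∀ a b, P a → P b → P (a + b)) →
        (∀ a b, P a → P b → P (a * b)) → ∀ a, P a := by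
  let A := Algebra.adjoin F ({γ} : Set (Module.End F W))
  have hfin : Finite (Module.End F W) := Finite.of_injective (fun g : Module.End F W => (g : W → W))
    (fun _ _ h => LinearMap.ext fun x => congrFun h x)
  let g : A := ⟨γ, Algebra.self_mem_adjoin_singleton F γ⟩
  have hgen : ∀ P : A → Prop, P g → (∀ c : F, P (algebraMap F A c)) → (∀ a b, P a → P b → P (a + b)) →
        (∀ a b, P a → P b → P (a * b)) → ∀ a, P a := by
    intro P h1 h2 h3 h4
    rintro ⟨a, ha⟩
    induction ha using Algebra.adjoin_induction with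
    | mem x hx =>
      have hx' : x = γ := hx
      subst hx'
      exact h1
    | algebraMap c => exact h2 c
    | add x y hx hy ihx ihy => exact h3 _ _ ihx ihy
    | mul x y hx hy ihx ihy => exact h4 _ _ ihx ihy
  refine ⟨A, inferInstance, inferInstance, inferInstance, inferInstance, inferInstance, inferInstance, ?_, g,
    fun w => rfl, hgen⟩
  have hs : Function.Surjective (Polynomial.aeval (R := F) g) := by
    intro a
    refine hgen (fun a => ∃ p, Polynomial.aeval (R := F) g p = a) ⟨Polynomial.X, Polynomial.aeval_X _⟩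
      (fun c => ⟨Polynomial.C c, Polynomial.aeval_C _ _⟩) ?_ ?_ a
    · rintro _ _ ⟨p, rfl⟩ ⟨r, rfl⟩
      exact ⟨p + r, map_add _ _ _⟩
    · rintro _ _ ⟨p, rfl⟩ ⟨r, rfl⟩
      exact ⟨p * r, map_mul _ _ _⟩
  exact IsPrincipalIdealRing.of_surjective (Polynomial.aeval (R := F) g).toRingHom hs

/-- the statement of `loc_sum` [LOC2] -/
def LocSum (F : Type u) (A : Type v) [Field F] [CommRing A] [Algebra F A] (q : ℕ) : Prop :=
  ∀ s : A ≃+* A, (∀ a, s (s a) = a) → (∀ c : F, s (algebraMap F A c) = algebraMap F A (c ^ q)) →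
    Odd (finrank F A) →
    ∑ᶠ y : {y : A // y * s y = 1}, (-(q : ℂ)) ^ finrank F (LinearMap.ker (LinearMap.mulLeft F ((y : A) - 1))) = 0

variable {V : Type v} [AddCommGroup V] [Module F V] {q : ℕ} {σ : F →+* F} {B : V →ₛₗ[σ] V →ₗ[F] F} [Finite V]

theorem exists_Y_of_locSum (h : HS q σ B) (hodd : Odd (finrank F V)) (x : UU B)
    (hloc : ∀ (A : Type v) [CommRing A] [Finite A] [Algebra F A] [IsLocalRing A] [IsPrincipalIdealRing A],
      LocSum F A q) :
    ∃ Y : Subgroup (UU B), (∀ y ∈ Y, y * x = x * y) ∧ ∑ᶠ y : Y, wf q (y : UU B) = 0 := by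
  classical
  -- minimal subspace
  have hex : ∃ n : ℕ, ∃ W : Submodule F V, finrank F W = n ∧ (∀ w ∈ W, ac B x w ∈ W) ∧
      (∀ y ∈ W, (∀ z ∈ W, B z y = 0) → y = 0) ∧ Odd n := by
    refine ⟨_, ⊤, rfl, fun _ _ => Submodule.mem_top, fun y _ hy => HS_ext_right h fun z => hy z Submodule.mem_top, ?_⟩
    rwa [finrank_top]
  obtain ⟨W, hWn, hWx, hWnd, hWodd⟩ := Nat.find_spec hex
  have hmin : ∀ W' : Submodule F V, (∀ w ∈ W', ac B x w ∈ W') →
      (∀ y ∈ W', (∀ z ∈ W', B z y = 0) → y = 0) → Odd (finrank F W') → finrank F W ≤ finrank F W' := by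
    intro W' h1 h2 h3
    rw [hWn]
    exact Nat.find_min' hex ⟨W', rfl, h1, h2, h3⟩
  rw [← hWn] at hWodd
  have hc : IsCompl W (perp B W) := isCompl_perp h W hWnd
  -- the restricted form
  let B' : W →ₛₗ[σ] W →ₗ[F] F := B.domRestrict₁₂ W W
  have hB' : ∀ u v : W, B' u v = B u v := fun u v => rfl
  have h' : HS q σ B' :=
    { two_le := h.two_le
      card := h.card
      sig := h.sig
      symm := ⟨fun u v => h.sy _ _⟩
      sep := fun u hu => Subtype.ext (hWnd u u.2 fun z hz => h.zero_symm (hu ⟨z, hz⟩)) }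
  -- the restriction of `x`
  let γ : Module.End F W := ((x : V ≃ₗ[F] V) : V →ₗ[F] V).restrict hWx
  have hγ : ∀ w : W, ((γ w : W) : V) = ac B x w := fun w => rfl
  obtain ⟨A, _, _, _, _, _, _, _, g, hg, hgen⟩ := exists_alg γ
  have hgB : ∀ u v : W, B' (g • u) (g • v) = B' u v := by
    intro u v
    rw [hB', hB', hg, hg, hγ, hγ, form_ac]
  obtain ⟨n, hn, hgn⟩ := exists_pow_idem g
  have hgpow : ∀ (k : ℕ) (u v : W), B' (g ^ k • u) (g ^ k • v) = B' u v := by
    intro k
    induction k with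
    | zero => intro u v; rw [pow_zero, one_smul, one_smul]
    | succ k ih => intro u v; rw [pow_succ', mul_smul, mul_smul, hgB, ih]
  have hg1 : g ^ n = 1 := by
    refine ext_of_smul (V := W) fun w => ?_
    rw [one_smul]
    have h1 : g ^ n • (g ^ n • w - w) = 0 := by rw [smul_sub, smul_smul, hgn, sub_self]
    refine sub_eq_zero.mp (h'.ext fun u => ?_)
    rw [← hgpow n, h1, map_zero, LinearMap.zero_apply]
  have hgg : g * g ^ (n - 1) = 1 := by
    rw [← pow_succ', Nat.sub_add_cancel hn, hg1]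
  obtain ⟨s, hs, hss, hsF⟩ := exists_adj_equiv (A := A) h' (hgen _
    ⟨g ^ (n - 1), fun u v => by rw [← hgB u (g ^ (n - 1) • v), smul_smul, hgg, one_smul]⟩
    (fun c => ⟨algebraMap F A (σ c), fun u v => by
      rw [algebraMap_smul, algebraMap_smul, smul_left_form, map_smul, smul_eq_mul]⟩)
    (fun a b ⟨a', ha⟩ ⟨b', hb⟩ => ⟨a' + b', fun u v => by
      rw [add_smul, map_add, LinearMap.add_apply, ha, hb, add_smul, map_add]⟩)
    (fun a b ⟨a', ha⟩ ⟨b', hb⟩ => ⟨b' * a', fun u v => by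
      rw [mul_smul, ha, hb, mul_smul]⟩))
  -- minimality for submodules
  have hmin' : ∀ W' : Submodule F W, (∀ (a : A), ∀ w ∈ W', a • w ∈ W') →
      (∀ x ∈ W', (∀ y ∈ W', B' y x = 0) → x = 0) → Odd (finrank F W') → W' = ⊤ := by
    intro W' h1 h2 h3
    have hfr : finrank F (W'.map W.subtype) = finrank F W' :=
      (Submodule.equivMapOfInjective W.subtype (Submodule.injective_subtype W) W').finrank_eq.symm
    refine Submodule.eq_top_of_finrank_eq (le_antisymm (Submodule.finrank_le _) ?_)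
    rw [← hfr]
    refine hmin _ ?_ ?_ (by rwa [hfr])
    · rintro _ ⟨w, hw, rfl⟩
      refine ⟨g • w, h1 g w hw, ?_⟩
      rw [hg]
      rfl
    · rintro _ ⟨w, hw, rfl⟩ hz
      have h4 : w = 0 := h2 w hw fun y hy => hz _ ⟨y, hy, rfl⟩
      rw [h4, map_zero]
  have hlocal : IsLocalRing A := core_local h' hWodd s hs hmin'
  obtain ⟨v, hv⟩ := core_cyclic h' hWodd s hs hmin'
  let φ : A ≃ₗ[F] W := LinearEquiv.ofBijective
    { toFun := fun a : A => a • v
      map_add' := fun a b => add_smul _ _ _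
      map_smul' := fun c a => by rw [RingHom.id_apply, smul_assoc] } hv
  have hAodd : Odd (finrank F A) := by
    rw [φ.finrank_eq]
    exact hWodd
  have h0 := hloc A s hss hsF hAodd
  refine ⟨YY B W A, ?_, sum_YY h hc s hs hv h0⟩
  rintro y ⟨hy, a, ha⟩
  refine ext_of_decomp hc (fun w => ?_) fun u hu => ?_
  · rw [ac_mul, ac_mul, ← hγ, ha, ha, ← hγ, ← hg, ← hg, smul_smul, smul_smul, mul_comm]
  · have hxu : ac B x u ∈ perp B W := by
      intro w hw
      have hsur : ∃ w' : W, ac B x w' = w := by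
        have h1 : Function.Surjective γ := by
          rw [← Finite.injective_iff_surjective]
          intro p r hpr
          have h2 : ac B x p = ac B x r := by rw [← hγ, ← hγ, hpr]
          exact Subtype.ext ((x : V ≃ₗ[F] V).injective h2)
        obtain ⟨w', hw'⟩ := h1 ⟨w, hw⟩
        exact ⟨w', by rw [← hγ, hw']⟩
      obtain ⟨w', rfl⟩ := hsur
      rw [form_ac]
      exact hu w' w'.2
    rw [ac_mul, ac_mul, hy u hu, hy _ hxu]

end Main

end Cfsg.Agent.H984.CC
end

-- part: H128/CCLoc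
section
/-!
# S4793, LOC2: norm one elements of a finite local principal ideal algebra with involution (helper128, task 3831)
-/

set_option autoImplicit false
set_option linter.unusedSectionVars false

namespace Cfsg.Agent.H128.CCLoc

open Module

section Chain

variable {A : Type*} [CommRing A]

theorem exists_pi [Finite A] [IsLocalRing A] [IsPrincipalIdealRing A] :
    ∃ (π : A) (e : ℕ), π ^ e = 0 ∧ (∀ i < e, π ^ i ≠ 0) ∧ ∀ a : A, IsUnit a ∨ π ∣ a := by
  obtain ⟨π, hπ⟩ := (IsPrincipalIdealRing.principal (IsLocalRing.maximalIdeal A)).principal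
  have hm : ∀ a : A, π ∣ a ↔ ¬ IsUnit a := by
    intro a
    rw [← Ideal.mem_span_singleton]
    have h1 : a ∈ IsLocalRing.maximalIdeal A ↔ a ∈ Ideal.span {π} := by rw [hπ]
    rw [← h1, IsLocalRing.mem_maximalIdeal, mem_nonunits_iff]
  have hπu : ¬ IsUnit π := (hm π).1 dvd_rfl
  have hnil : ∃ n : ℕ, π ^ n = 0 := by
    obtain ⟨i, j, hij, h⟩ := Finite.exists_ne_map_eq_of_infinite (fun n : ℕ => π ^ n)
    wlog hlt : i < j generalizing i j
    · exact this j i hij.symm h.symm (by omega)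
    change π ^ i = π ^ j at h
    refine ⟨i, ?_⟩
    have h1 : π ^ i * (1 - π ^ (j - i)) = 0 := by
      rw [mul_sub, mul_one, ← pow_add, Nat.add_sub_cancel' hlt.le, h, sub_self]
    have h2 : IsUnit (1 - π ^ (j - i)) := by
      by_contra h3
      have h4 : π ∣ 1 - π ^ (j - i) := (hm _).2 h3
      have h5 : π ∣ π ^ (j - i) := dvd_pow_self π (by omega)
      have h6 : π ∣ 1 := by
        have := dvd_add h4 h5
        rwa [sub_add_cancel] at this
      exact hπu (isUnit_of_dvd_one h6)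
    exact (h2.mul_left_eq_zero).1 h1
  classical
  refine ⟨π, Nat.find hnil, Nat.find_spec hnil, fun i hi => Nat.find_min hnil hi, fun a => ?_⟩
  rw [hm]
  exact em _

variable {π : A} {e : ℕ} (h0 : π ^ e = 0) (hne : ∀ i < e, π ^ i ≠ 0) (hu : ∀ a : A, IsUnit a ∨ π ∣ a)

include h0 hne hu

theorem exists_unit_mul {a : A} (ha : a ≠ 0) : ∃ j < e, ∃ u : A, IsUnit u ∧ a = u * π ^ j := by
  classical
  have hex : ∃ j : ℕ, ¬ π ^ (j + 1) ∣ a := by
    refine ⟨e, fun h => ha ?_⟩
    rw [pow_succ, h0, zero_mul] at h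
    exact zero_dvd_iff.1 h
  have h1 := Nat.find_spec hex
  have h2 : π ^ Nat.find hex ∣ a := by
    rcases Nat.eq_zero_or_eq_succ_pred (Nat.find hex) with h | h
    · rw [h, pow_zero]; exact one_dvd _
    · rw [h]
      by_contra h3
      exact Nat.find_min hex (by omega) h3
  obtain ⟨c, hc⟩ := h2
  refine ⟨Nat.find hex, ?_, c, ?_, by rw [mul_comm, ← hc]⟩
  · by_contra h3
    push Not at h3
    apply ha
    rw [hc, ← Nat.add_sub_cancel' h3, pow_add, h0, zero_mul, zero_mul]
  · rcases hu c with h3 | h3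
    · exact h3
    · exfalso
      apply h1
      rw [pow_succ]
      obtain ⟨d, hd⟩ := h3
      exact ⟨d, by rw [mul_assoc, ← hd]; exact hc⟩

theorem pow_mul_eq_zero {i : ℕ} (hi : i ≤ e) (c : A) : π ^ i * c = 0 ↔ π ^ (e - i) ∣ c := by
  constructor
  · intro h
    by_cases hc : c = 0
    · rw [hc]; exact dvd_zero _
    · obtain ⟨j, hj, u, hu', rfl⟩ := exists_unit_mul h0 hne hu hc
      have h1 : u * π ^ (i + j) = 0 := by
        rw [pow_add, ← h]; ring
      have h2 : π ^ (i + j) = 0 := (hu'.mul_right_eq_zero).1 h1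
      have h3 : e ≤ i + j := by
        by_contra h4
        push Not at h4
        exact hne _ h4 h2
      exact (pow_dvd_pow π (by omega)).mul_left u
  · rintro ⟨d, rfl⟩
    rw [← mul_assoc, ← pow_add, Nat.add_sub_cancel' hi, h0, zero_mul]

/-- the ideal `(π ^ j)` -/
theorem dvd_iff {j i : ℕ} {u : A} (hu' : IsUnit u) (hi : i < e) : π ^ j ∣ u * π ^ i ↔ j ≤ i := by
  constructor
  · intro h
    by_contra h1
    push Not at h1
    obtain ⟨c, hc⟩ := h
    have h2 : π ^ (e - 1 - i) * (u * π ^ i) = 0 := by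
      rw [hc, ← mul_assoc, ← pow_add]
      have : e - 1 - i + j = e + (j - i - 1) := by omega
      rw [this, pow_add, h0, zero_mul, zero_mul]
    have h3 : u * π ^ (e - 1) = 0 := by
      rw [← h2]
      have : e - 1 = (e - 1 - i) + i := by omega
      conv_lhs => rw [this, pow_add]
      ring
    exact hne (e - 1) (by omega) ((hu'.mul_right_eq_zero).1 h3)
  · intro h
    exact (pow_dvd_pow π h).mul_left u

end Chain

section Dim

variable {F A : Type*} [Field F] [CommRing A] [Algebra F A]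

/-- the ideal `(π ^ j)` as an `F`-space -/
def II (F : Type*) {A : Type*} [Field F] [CommRing A] [Algebra F A] (π : A) (j : ℕ) : Submodule F A :=
  LinearMap.range (LinearMap.mulLeft F (π ^ j))

theorem mem_II {π : A} {j : ℕ} {a : A} : a ∈ II F π j ↔ π ^ j ∣ a := by
  constructor
  · rintro ⟨c, rfl⟩
    exact ⟨c, rfl⟩
  · rintro ⟨c, rfl⟩
    exact ⟨c, rfl⟩

variable [Finite A] {π : A} {e : ℕ} (h0 : π ^ e = 0) (hne : ∀ i < e, π ^ i ≠ 0) (hu : ∀ a : A, IsUnit a ∨ π ∣ a)

include h0 hne hu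

theorem finrank_step {j : ℕ} (hj : j < e) :
    finrank F (II F π j) = finrank F (II F π (j + 1)) + finrank F (II F π (e - 1)) := by
  have : FiniteDimensional F A := inferInstance
  have h1 := LinearMap.finrank_range_add_finrank_ker ((LinearMap.mulLeft F π).domRestrict (II F π j))
  have h2 : LinearMap.range ((LinearMap.mulLeft F π).domRestrict (II F π j)) = II F π (j + 1) := by
    ext a
    rw [mem_II]
    constructor
    · rintro ⟨⟨b, hb⟩, rfl⟩
      obtain ⟨c, rfl⟩ := mem_II.1 hb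
      exact ⟨c, by
        show π * (π ^ j * c) = _
        rw [pow_succ]; ring⟩
    · rintro ⟨c, rfl⟩
      refine ⟨⟨π ^ j * c, mem_II.2 ⟨c, rfl⟩⟩, ?_⟩
      show π * (π ^ j * c) = _
      rw [pow_succ]; ring
  have h3 : II F π (e - 1) ≤ II F π j := fun a ha => by
    rw [mem_II] at ha ⊢
    exact (pow_dvd_pow π (by omega)).trans ha
  have h4 : LinearMap.ker ((LinearMap.mulLeft F π).domRestrict (II F π j)) =
      (II F π (e - 1)).comap (II F π j).subtype := by
    ext a
    rw [LinearMap.mem_ker, Submodule.mem_comap, mem_II]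
    have h5 := pow_mul_eq_zero h0 hne hu (i := 1) (by omega) (a : A)
    rw [pow_one] at h5
    exact h5
  rw [h2, h4, (Submodule.comapSubtypeEquivOfLe h3).finrank_eq] at h1
  exact h1.symm

theorem finrank_II {j : ℕ} (hj : j ≤ e) : finrank F (II F π j) = finrank F (II F π (e - 1)) * (e - j) := by
  obtain ⟨k, hk⟩ : ∃ k, k = e - j := ⟨_, rfl⟩
  induction k generalizing j with
  | zero =>
    have h1 : j = e := by omega
    subst h1
    rw [Nat.sub_self, mul_zero]
    have h2 : II F π j = ⊥ := by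
      rw [eq_bot_iff]
      intro a ha
      rw [mem_II, h0, zero_dvd_iff] at ha
      exact ha
    rw [h2, finrank_bot]
  | succ k ih =>
    rw [finrank_step h0 hne hu (by omega), ih (j := j + 1) (by omega) (by omega)]
    have : e - j = e - (j + 1) + 1 := by omega
    rw [this]
    ring

theorem ker_mul {j : ℕ} (hj : j ≤ e) {u : A} (hu' : IsUnit u) :
    LinearMap.ker (LinearMap.mulLeft F (u * π ^ j)) = II F π (e - j) := by
  ext a
  rw [LinearMap.mem_ker, mem_II, ← pow_mul_eq_zero h0 hne hu hj a]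
  show u * π ^ j * a = 0 ↔ _
  rw [mul_assoc, hu'.mul_right_eq_zero]

end Dim

section Sum

variable {F A : Type*} [Field F] [CommRing A] [Algebra F A]

/-- the weight -/
noncomputable def ww (F : Type*) {A : Type*} [Field F] [CommRing A] [Algebra F A] (q : ℕ) (a : A) : ℂ :=
  (-(q : ℂ)) ^ finrank F (LinearMap.ker (LinearMap.mulLeft F a))

theorem ww_mul {q : ℕ} {u : A} (hu : IsUnit u) (a : A) : ww F q (a * u) = ww F q a := by
  have h : LinearMap.ker (LinearMap.mulLeft F (a * u)) = LinearMap.ker (LinearMap.mulLeft F a) := by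
    ext x
    rw [LinearMap.mem_ker, LinearMap.mem_ker]
    show a * u * x = 0 ↔ a * x = 0
    rw [mul_right_comm, hu.mul_left_eq_zero]
  unfold ww
  rw [h]

open Classical in
/-- the fixed elements of `s` in `(π ^ j)` -/
noncomputable def A0 [Fintype A] (s : A ≃+* A) (π : A) (j : ℕ) : Finset A :=
  Finset.univ.filter fun a => π ^ j ∣ a ∧ s a = a

open Classical in
theorem mem_A0 [Fintype A] {s : A ≃+* A} {π : A} {j : ℕ} {a : A} : a ∈ A0 s π j ↔ π ^ j ∣ a ∧ s a = a := by
  unfold A0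
  rw [Finset.mem_filter]
  exact ⟨fun h => h.2, fun h => ⟨Finset.mem_univ _, h⟩⟩

variable {π : A} {e : ℕ} (h0 : π ^ e = 0) (hne : ∀ i < e, π ^ i ≠ 0) (hu : ∀ a : A, IsUnit a ∨ π ∣ a)
  {s : A ≃+* A} (hs : ∀ a, s (s a) = a)

include hu hs in
theorem s_dvd {j : ℕ} {a : A} (ha : π ^ j ∣ a) : π ^ j ∣ s a := by
  obtain ⟨c, rfl⟩ := ha
  rw [map_mul, map_pow]
  rcases hu (s π) with h | h
  · have h1 : IsUnit π := by
      have := h.map s
      rwa [hs] at this
    exact (h1.pow j).dvd
  · exact (pow_dvd_pow_of_dvd h j).mul_right _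

open Classical in
include hu hs in
/-- the decomposition `b = x + τ y` -/
theorem sum_split [Fintype A] {τ δ ε : A} (h1 : s τ = τ - δ) (h2 : s δ = -δ) (h3 : ε * δ = 1) (j : ℕ) (g : A → ℂ) :
    ∑ b ∈ Finset.univ.filter (fun b : A => π ^ j ∣ b), g (b - s b) = (A0 s π j).card * ∑ y ∈ A0 s π j, g (y * δ) := by
  have h4 : s ε = -ε := by
    have h5 : s ε * s δ = 1 := by rw [← map_mul, h3, map_one]
    rw [h2] at h5
    calc s ε = s ε * (ε * δ) := by rw [h3, mul_one]
      _ = -((s ε * -δ) * ε) := by ring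
      _ = -ε := by rw [h5, one_mul]
  have h5 : (A0 s π j).card * ∑ y ∈ A0 s π j, g (y * δ) = ∑ p ∈ A0 s π j ×ˢ A0 s π j, g (p.2 * δ) := by
    rw [Finset.sum_product]
    show _ = ∑ _x ∈ A0 s π j, ∑ y ∈ A0 s π j, g (y * δ)
    rw [Finset.sum_const, nsmul_eq_mul]
  rw [h5]
  symm
  refine Finset.sum_nbij' (fun p => p.1 + τ * p.2) (fun b => (b - τ * (ε * (b - s b)), ε * (b - s b))) ?_ ?_ ?_ ?_ ?_
  · rintro ⟨x, y⟩ hp
    rw [Finset.mem_product, mem_A0, mem_A0] at hp
    rw [Finset.mem_filter]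
    exact ⟨Finset.mem_univ _, dvd_add hp.1.1 (hp.2.1.mul_left τ)⟩
  · intro b hb
    rw [Finset.mem_filter] at hb
    have hb1 : π ^ j ∣ b - s b := dvd_sub hb.2 (s_dvd hu hs hb.2)
    rw [Finset.mem_product, mem_A0, mem_A0]
    refine ⟨⟨dvd_sub hb.2 ((hb1.mul_left ε).mul_left τ), ?_⟩, hb1.mul_left ε, ?_⟩
    · show s (b - τ * (ε * (b - s b))) = b - τ * (ε * (b - s b))
      rw [map_sub, map_mul, map_mul, map_sub, hs, h1, h4]
      linear_combination (b - s b) * h3
    · show s (ε * (b - s b)) = ε * (b - s b)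
      rw [map_mul, map_sub, hs, h4]
      ring
  · rintro ⟨x, y⟩ hp
    rw [Finset.mem_product, mem_A0, mem_A0] at hp
    obtain ⟨⟨-, hx⟩, -, hy⟩ := hp
    have h6 : (x + τ * y) - s (x + τ * y) = δ * y := by
      rw [map_add, map_mul]
      rw [hx, hy, h1]
      ring
    show ((x + τ * y) - τ * (ε * ((x + τ * y) - s (x + τ * y))), ε * ((x + τ * y) - s (x + τ * y))) = (x, y)
    rw [h6]
    refine Prod.ext ?_ ?_
    · show x + τ * y - τ * (ε * (δ * y)) = x
      linear_combination (-(τ * y)) * h3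
    · show ε * (δ * y) = y
      linear_combination y * h3
  · intro b hb
    show b - τ * (ε * (b - s b)) + τ * (ε * (b - s b)) = b
    ring
  · rintro ⟨x, y⟩ hp
    rw [Finset.mem_product, mem_A0, mem_A0] at hp
    obtain ⟨⟨-, hx⟩, -, hy⟩ := hp
    show g (y * δ) = g ((x + τ * y) - s (x + τ * y))
    congr 1
    rw [map_add, map_mul]
    rw [hx, hy, h1]
    ring

end Sum

section Main

variable {F A : Type*} [Field F] [Finite F] [CommRing A] [Algebra F A] [Fintype A] {q : ℕ} (h2 : 2 ≤ q)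
  (hF : Nat.card F = q ^ 2) {s : A ≃+* A} (hs : ∀ a, s (s a) = a)
  (hsF : ∀ c : F, s (algebraMap F A c) = algebraMap F A (c ^ q))

include h2 hF in
theorem exists_theta : ∃ θ : F, θ - θ ^ q ≠ 0 := by
  by_contra hcon
  push Not at hcon
  have := Fintype.ofFinite F
  obtain ⟨g, hg⟩ := IsCyclic.exists_generator (α := Fˣ)
  have h1 : g ^ (q - 1) = 1 := by
    have h3 : g ^ q = g := by
      ext
      rw [Units.val_pow_eq_pow_val]
      exact (sub_eq_zero.1 (hcon g)).symm
    have h4 : g ^ (q - 1) * g = g := by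
      rw [← pow_succ]
      have : q - 1 + 1 = q := by omega
      rw [this, h3]
    exact mul_eq_right.mp h4
  have h4 : orderOf g = Nat.card Fˣ := orderOf_eq_card_of_forall_mem_zpowers hg
  have h5 : Nat.card Fˣ = q ^ 2 - 1 := by
    rw [Nat.card_units, hF]
  have h6 : orderOf g ≤ q - 1 := orderOf_le_of_pow_eq_one (by omega) h1
  rw [h4, h5] at h6
  have h7 : 2 * q ≤ q ^ 2 := by rw [sq]; exact Nat.mul_le_mul_right q h2
  omega

include h2 hF hs hsF in
theorem exists_tau : ∃ τ δ ε : A, s τ = τ - δ ∧ s δ = -δ ∧ ε * δ = 1 := by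
  obtain ⟨θ, hθ⟩ := exists_theta h2 hF
  have h1 : s (algebraMap F A θ) = algebraMap F A θ - algebraMap F A (θ - θ ^ q) := by
    rw [hsF, map_sub]
    ring
  refine ⟨algebraMap F A θ, algebraMap F A (θ - θ ^ q), algebraMap F A (θ - θ ^ q)⁻¹, h1, ?_, ?_⟩
  · have h3 := hs (algebraMap F A θ)
    rw [h1, map_sub, h1] at h3
    linear_combination -h3
  · rw [← map_mul, inv_mul_cancel₀ hθ, map_one]

variable {π : A} {e : ℕ} (h0 : π ^ e = 0) (hne : ∀ i < e, π ^ i ≠ 0) (hu : ∀ a : A, IsUnit a ∨ π ∣ a)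

include h2 hF hs hsF h0 hne hu in
/-- number of fixed elements of `(π ^ j)` -/
theorem card_A0 {j : ℕ} (hj : j ≤ e) : (A0 s π j).card = (q ^ finrank F (II F π (e - 1))) ^ (e - j) := by
  classical
  obtain ⟨τ, δ, ε, h3, h4, h5⟩ := exists_tau h2 hF hs hsF
  have h6 := sum_split hu hs h3 h4 h5 j (fun _ => 1)
  simp only [Finset.sum_const, nsmul_eq_mul, mul_one] at h6
  have h7 : (Finset.univ.filter (fun b : A => π ^ j ∣ b)).card = (A0 s π j).card * (A0 s π j).card := by
    exact_mod_cast h6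
  have h8 : (Finset.univ.filter (fun b : A => π ^ j ∣ b)).card = Nat.card (II F π j) := by
    rw [Nat.card_eq_fintype_card, Fintype.card_subtype]
    congr 1
    ext b
    rw [Finset.mem_filter, Finset.mem_filter, mem_II]
  rw [h8, Module.natCard_eq_pow_finrank (K := F), hF, finrank_II h0 hne hu hj, ← pow_mul, ← sq] at h7
  rw [mul_comm 2, pow_mul] at h7
  have h9 := (Nat.pow_left_injective (n := 2) (by norm_num)) h7
  rw [← h9, pow_mul]

include h0 hne hu in
/-- the weight of the elements of `(π ^ j)` outside `(π ^ (j + 1))` -/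
theorem ww_eq {j : ℕ} (hj : j ≤ e) {u : A} (hu' : IsUnit u) :
    ww F q (u * π ^ j) = ((-(q : ℂ)) ^ finrank F (II F π (e - 1))) ^ j := by
  unfold ww
  rw [ker_mul h0 hne hu hj hu', finrank_II h0 hne hu (Nat.sub_le _ _), ← pow_mul]
  congr 2
  omega

include h0 hne hu in
theorem sum_step {j : ℕ} (hj : j < e) :
    ∑ a ∈ A0 s π j, ww F q a = ∑ a ∈ A0 s π (j + 1), ww F q a +
      (((A0 s π j).card : ℂ) - (A0 s π (j + 1)).card) * ((-(q : ℂ)) ^ finrank F (II F π (e - 1))) ^ j := by
  classical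
  have hsub : A0 s π (j + 1) ⊆ A0 s π j := fun a ha => by
    rw [mem_A0] at ha ⊢
    exact ⟨(pow_dvd_pow π (by omega)).trans ha.1, ha.2⟩
  rw [← Finset.sum_sdiff hsub, add_comm]
  congr 1
  have h1 : ∀ a ∈ A0 s π j \ A0 s π (j + 1), ww F q a = ((-(q : ℂ)) ^ finrank F (II F π (e - 1))) ^ j := by
    intro a ha
    rw [Finset.mem_sdiff, mem_A0, mem_A0] at ha
    obtain ⟨⟨ha1, ha2⟩, ha3⟩ := ha
    have ha4 : ¬ π ^ (j + 1) ∣ a := fun h => ha3 ⟨h, ha2⟩
    have ha0 : a ≠ 0 := by
      rintro rfl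
      exact ha4 (dvd_zero _)
    obtain ⟨i, hi, u, hu', rfl⟩ := exists_unit_mul h0 hne hu ha0
    rw [dvd_iff h0 hne hu hu' hi] at ha1 ha4
    have hij : i = j := by omega
    subst hij
    exact ww_eq h0 hne hu hj.le hu'
  rw [Finset.sum_congr rfl h1, Finset.sum_const, nsmul_eq_mul, Finset.card_sdiff_of_subset hsub,
    Nat.cast_sub (Finset.card_le_card hsub)]

include h0 hne hu in
theorem A0_e : A0 s π e = {0} := by
  ext a
  rw [mem_A0, Finset.mem_singleton, h0, zero_dvd_iff]
  constructor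
  · exact fun h => h.1
  · rintro rfl
    exact ⟨rfl, map_zero s⟩

include h0 hne hu in
theorem finrank_eq : finrank F A = finrank F (II F π (e - 1)) * e := by
  have h1 := finrank_II (F := F) h0 hne hu (Nat.zero_le e)
  have h3 : II F π 0 = ⊤ := by
    rw [eq_top_iff]
    intro a _
    rw [mem_II, pow_zero]
    exact one_dvd a
  rw [h3, finrank_top, Nat.sub_zero] at h1
  exact h1

include h2 hF hs hsF h0 hne hu in
theorem sum_A0 (hodd : Odd (finrank F A)) {j : ℕ} (hj : j ≤ e) :
    ∑ a ∈ A0 s π j, ww F q a =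
      if Odd j then -(((q : ℂ) ^ finrank F (II F π (e - 1))) ^ e) else -(((q : ℂ) ^ finrank F (II F π (e - 1))) ^ (e - 1)) := by
  have h3 := finrank_eq (F := F) h0 hne hu
  have h4 : Odd (finrank F (II F π (e - 1))) ∧ Odd e := by
    rw [h3, Nat.odd_mul] at hodd
    exact hodd
  obtain ⟨hd, he⟩ := h4
  have hQ : (-(q : ℂ)) ^ finrank F (II F π (e - 1)) = -((q : ℂ) ^ finrank F (II F π (e - 1))) := hd.neg_pow _
  obtain ⟨k, hk⟩ : ∃ k, k = e - j := ⟨_, rfl⟩
  induction k generalizing j with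
  | zero =>
    have h5 : j = e := by omega
    subst h5
    rw [if_pos he, A0_e h0 hne hu, Finset.sum_singleton]
    have h6 := ww_eq (F := F) (q := q) h0 hne hu le_rfl isUnit_one
    rw [one_mul, h0, hQ, he.neg_pow] at h6
    exact h6
  | succ k ih =>
    have hj' : j < e := by omega
    rw [sum_step (F := F) h0 hne hu hj', ih (j := j + 1) (by omega) (by omega), card_A0 h2 hF hs hsF h0 hne hu hj,
      card_A0 h2 hF hs hsF h0 hne hu (j := j + 1) (by omega), hQ]
    push_cast
    generalize ((q : ℂ) ^ finrank F (II F π (e - 1))) = Q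
    have e1 : e = (e - j) + j := by omega
    have e2 : e - 1 = (e - (j + 1)) + j := by omega
    rcases Nat.even_or_odd j with hp | hp
    · have hp1 : Odd (j + 1) := hp.add_one
      have hp2 : ¬ Odd j := by rwa [Nat.not_odd_iff_even]
      rw [if_pos hp1, if_neg hp2, hp.neg_pow]
      conv_lhs => rw [show Q ^ e = Q ^ (e - j) * Q ^ j by rw [← pow_add, ← e1]]
      rw [e2, pow_add]
      ring
    · have hp1 : ¬ Odd (j + 1) := by rw [Nat.not_odd_iff_even]; exact hp.add_one
      rw [if_pos hp, if_neg hp1, hp.neg_pow]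
      rw [show Q ^ e = Q ^ (e - j) * Q ^ j by rw [← pow_add, ← e1]]
      rw [show Q ^ (e - 1) = Q ^ (e - (j + 1)) * Q ^ j by rw [← pow_add, ← e2]]
      ring

end Main

section Final

variable {F A : Type*} [Field F] [Finite F] [CommRing A] [Algebra F A] [Fintype A] {q : ℕ} (h2 : 2 ≤ q)
  (hF : Nat.card F = q ^ 2) {s : A ≃+* A} (hs : ∀ a, s (s a) = a)
  (hsF : ∀ c : F, s (algebraMap F A c) = algebraMap F A (c ^ q))
variable {π : A} {e : ℕ} (h0 : π ^ e = 0) (hne : ∀ i < e, π ^ i ≠ 0) (hu : ∀ a : A, IsUnit a ∨ π ∣ a)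

include h0 hne in
theorem not_isUnit (he : 0 < e) : ¬ IsUnit π := by
  intro h
  have h1 : IsUnit (π ^ e) := h.pow e
  rw [h0] at h1
  apply hne 0 he
  rw [pow_zero]
  obtain ⟨c, hc⟩ := h1.exists_right_inv
  rw [← hc, zero_mul]

open Classical in
include h2 hF hs hsF h0 hne hu in
theorem sum_units (hodd : Odd (finrank F A)) :
    ∑ b ∈ Finset.univ.filter (fun b : A => IsUnit b), ww F q (b - s b) = 0 := by
  have h3 := finrank_eq (F := F) h0 hne hu
  have h4 : Odd (finrank F (II F π (e - 1))) ∧ Odd e := by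
    rw [h3, Nat.odd_mul] at hodd
    exact hodd
  obtain ⟨hd, he⟩ := h4
  have he0 : 0 < e := he.pos
  obtain ⟨τ, δ, ε, h5, h6, h7⟩ := exists_tau h2 hF hs hsF
  have hδ : IsUnit δ := isUnit_iff_exists_inv'.2 ⟨ε, h7⟩
  have hT : ∀ j, ∑ b ∈ Finset.univ.filter (fun b : A => π ^ j ∣ b), ww F q (b - s b) =
      (A0 s π j).card * ∑ y ∈ A0 s π j, ww F q y := by
    intro j
    rw [sum_split hu hs h5 h6 h7 j (ww F q)]
    congr 1
    exact Finset.sum_congr rfl fun y _ => ww_mul hδ y
  have hsub : Finset.univ.filter (fun b : A => π ^ 1 ∣ b) ⊆ Finset.univ.filter (fun b : A => π ^ 0 ∣ b) := by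
    intro b _
    rw [Finset.mem_filter, pow_zero]
    exact ⟨Finset.mem_univ _, one_dvd _⟩
  have hU : Finset.univ.filter (fun b : A => IsUnit b) =
      Finset.univ.filter (fun b : A => π ^ 0 ∣ b) \ Finset.univ.filter (fun b : A => π ^ 1 ∣ b) := by
    ext b
    rw [Finset.mem_sdiff, Finset.mem_filter, Finset.mem_filter, Finset.mem_filter, pow_zero, pow_one]
    constructor
    · rintro ⟨-, hb⟩
      refine ⟨⟨Finset.mem_univ _, one_dvd _⟩, fun h => not_isUnit h0 hne he0 ?_⟩
      exact isUnit_of_dvd_unit h.2 hb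
    · rintro ⟨-, hb⟩
      refine ⟨Finset.mem_univ _, ?_⟩
      rcases hu b with h | h
      · exact h
      · exact absurd ⟨Finset.mem_univ _, h⟩ hb
  have h8 := Finset.sum_sdiff (f := fun b => ww F q (b - s b)) hsub
  rw [← hU, hT, hT, sum_A0 h2 hF hs hsF h0 hne hu hodd (Nat.zero_le e), sum_A0 h2 hF hs hsF h0 hne hu hodd (j := 1) he0,
    card_A0 h2 hF hs hsF h0 hne hu (Nat.zero_le e), card_A0 h2 hF hs hsF h0 hne hu (j := 1) he0, if_neg (show ¬ Odd 0 by decide),
    if_pos (show Odd 1 by decide)] at h8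
  push_cast at h8
  rw [Nat.sub_zero] at h8
  linear_combination h8

include h2 hF hs hsF h0 hne hu in
/-- Hilbert's Theorem 90 -/
theorem hilbert90 (he : 0 < e) {y : A} (hy : y * s y = 1) : ∃ b : A, IsUnit b ∧ y * s b = b := by
  obtain ⟨τ, δ, ε, h5, h6, h7⟩ := exists_tau h2 hF hs hsF
  have hδ : IsUnit δ := isUnit_iff_exists_inv'.2 ⟨ε, h7⟩
  have key : ∀ c : A, y * s (c + y * s c) = c + y * s c := by
    intro c
    rw [map_add, map_mul, hs, mul_add, ← mul_assoc, hy, one_mul, add_comm]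
  rcases hu (1 + y * s 1) with h | h
  · exact ⟨_, h, key 1⟩
  · rcases hu (τ + y * s τ) with h' | h'
    · exact ⟨_, h', key τ⟩
    · exfalso
      apply not_isUnit h0 hne he
      have h8 : π ∣ y * δ := by
        have h9 := dvd_sub (h.mul_left τ) h'
        rw [map_one, h5] at h9
        have e1 : τ * (1 + y * 1) - (τ + y * (τ - δ)) = y * δ := by ring
        rwa [e1] at h9
      have hyu : IsUnit y := IsUnit.of_mul_eq_one _ hy
      exact isUnit_of_dvd_unit h8 (hyu.mul hδ)

end Final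

/-- `A` a finite local principal ideal ring, an `F`-algebra with involution `s` inducing `c ↦ c ^ q` on the field `F` with `q²`
elements, `dim A` odd.  Norm one elements `y`, weighted with `(-q) ^ dim (annihilator of y - 1)`, sum to zero. -/
theorem loc_sum {F A : Type*} [Field F] [Finite F] [CommRing A] [Finite A] [Algebra F A] [IsLocalRing A]
    [IsPrincipalIdealRing A] {q : ℕ} (h2 : 2 ≤ q) (hF : Nat.card F = q ^ 2) (s : A ≃+* A)
    (hs : ∀ a, s (s a) = a) (hsF : ∀ c : F, s (algebraMap F A c) = algebraMap F A (c ^ q))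
    (hodd : Odd (finrank F A)) :
    ∑ᶠ y : {y : A // y * s y = 1}, (-(q : ℂ)) ^ finrank F (LinearMap.ker (LinearMap.mulLeft F ((y : A) - 1))) = 0 := by
  classical
  have := Fintype.ofFinite A
  obtain ⟨π, e, h0, hne, hu⟩ := exists_pi (A := A)
  have h3 := finrank_eq (F := F) h0 hne hu
  have h4 : Odd (finrank F (II F π (e - 1))) ∧ Odd e := by
    have := hodd
    rw [h3, Nat.odd_mul] at this
    exact this
  have he0 : 0 < e := h4.2.pos
  have h5 := sum_units h2 hF hs hsF h0 hne hu hodd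
  let φ : Aˣ →* Aˣ := MonoidHom.id Aˣ / Units.map (s : A →* A)
  have hφ : ∀ b : Aˣ, ((φ b : Aˣ) : A) * s b = b := by
    intro b
    show ((b / Units.map (s : A →* A) b : Aˣ) : A) * s b = b
    have h6 : s (b : A) = ((Units.map (s : A →* A) b : Aˣ) : A) := rfl
    rw [h6, ← Units.val_mul, div_mul_cancel]
  have h6 : ∑ b : Aˣ, ww F q (((φ b : Aˣ) : A) - 1) = 0 := by
    rw [← h5]
    refine Finset.sum_bij (fun b _ => (b : A)) (fun b _ => Finset.mem_filter.2 ⟨Finset.mem_univ _, b.isUnit⟩)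
      (fun b _ c _ h => Units.ext h) (fun b hb => ?_) (fun b _ => ?_)
    · obtain ⟨u, rfl⟩ := (Finset.mem_filter.1 hb).2
      exact ⟨u, Finset.mem_univ _, rfl⟩
    · have h7 : (b : A) - s b = (((φ b : Aˣ) : A) - 1) * s b := by
        rw [sub_mul, hφ, one_mul]
      rw [h7, ww_mul (b.isUnit.map s)]
  rw [Finset.sum_comp (fun y : Aˣ => ww F q ((y : A) - 1)) (fun b => φ b)] at h6
  have h7 : ∀ y ∈ Finset.univ.image (fun b => φ b), (Finset.univ.filter fun a => φ a = y).card =
      (Finset.univ.filter fun a => φ a = 1).card := by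
    intro y hy
    rw [Finset.mem_image] at hy
    obtain ⟨b, -, hb⟩ := hy
    exact MonoidHom.card_fiber_eq_of_mem_range φ ⟨b, hb⟩ ⟨1, map_one φ⟩
  rw [Finset.sum_congr rfl fun y hy => by rw [h7 y hy], ← Finset.smul_sum, smul_eq_zero] at h6
  have h8 : (Finset.univ.filter fun a => φ a = 1).card ≠ 0 := by
    rw [Finset.card_ne_zero]
    exact ⟨1, Finset.mem_filter.2 ⟨Finset.mem_univ _, map_one φ⟩⟩
  have h9 := h6.resolve_left h8
  rw [← h9, finsum_eq_sum_of_fintype]
  symm
  have hN : ∀ y : Aˣ, y ∈ Finset.univ.image (fun b => φ b) → (y : A) * s y = 1 := by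
    intro y hy
    rw [Finset.mem_image] at hy
    obtain ⟨b, -, rfl⟩ := hy
    have h10 := hφ b
    have h11 := congrArg s h10
    rw [map_mul, hs] at h11
    have h12 : ((φ b : Aˣ) : A) * s (φ b : Aˣ) * (b : A) = 1 * b := by
      rw [one_mul]
      calc ((φ b : Aˣ) : A) * s (φ b : Aˣ) * (b : A) = ((φ b : Aˣ) : A) * (s (φ b : Aˣ) * (b : A)) := by ring
        _ = b := by rw [h11, h10]
    exact b.isUnit.mul_right_cancel h12
  refine Finset.sum_bij (fun y hy => ⟨(y : A), hN y hy⟩) (fun y _ => Finset.mem_univ _)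
    (fun b _ c _ h => Units.ext (congrArg Subtype.val h)) (fun y _ => ?_) (fun y _ => rfl)
  obtain ⟨b, hb, hb'⟩ := hilbert90 h2 hF hs hsF h0 hne hu he0 y.2
  obtain ⟨u, rfl⟩ := hb
  refine ⟨φ u, Finset.mem_image.2 ⟨u, Finset.mem_univ _, rfl⟩, Subtype.ext ?_⟩
  have h10 := hφ u
  exact (u.isUnit.map s).mul_right_cancel (h10.trans hb'.symm)

end Cfsg.Agent.H128.CCLoc
end

-- part: H688/CC/Wsum
section
/-!
# S4793: the tasks WSUM and ORB (helper688)
-/

set_option autoImplicit false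

open Cfsg

namespace Cfsg.Agent.H688.CC

open Module Cfsg.Agent.H603.CC

universe u v w

section

variable {F : Type u} {V : Type v} [Field F] [AddCommGroup V] [Module F V] {q : ℕ} {σ : F →+* F}
  {B : V →ₛₗ[σ] V →ₗ[F] F} [Finite F] [Finite V]

/-! ### WSUM -/

omit [Finite F] [Finite V] in
theorem Ref_le_FixS (h : HS q σ B) [Finite F] {W : Submodule F V} {f : V} (hf : f ∈ perp B W) :
    Ref B f ≤ FixS B W := by
  intro ρ hρ w hw
  refine hρ w fun x hx => ?_
  obtain ⟨c, rfl⟩ := Submodule.mem_span_singleton.1 hx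
  rw [LinearMap.map_smulₛₗ₂, h.zero_symm (hf w hw), smul_zero]

theorem sum_FixS (h : HS q σ B) {Δ : UU B → ℂ} (hs : Star Δ)
    (h0 : ∀ E, IsTS B E → ∀ g ∈ FixS B (perp B E), Δ g = 0) (W : Submodule F V) :
    ∑ᶠ g : FixS B W, Δ (g : UU B) = 0 := by
  classical
  let _ := Fintype.ofFinite (UU B)
  by_cases hW : IsTS B (perp B W)
  · refine finsum_eq_zero_of_forall_eq_zero fun g => ?_
    refine h0 _ hW g ?_
    rw [perp_perp h]
    exact g.2
  · obtain ⟨f, hf, hff⟩ := exists_unit h hW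
    have hle := Ref_le_FixS h hf
    let _ := Fintype.ofFinite (FixS B W)
    let _ := Fintype.ofFinite (Ref B f)
    rw [finsum_eq_sum_of_fintype]
    have h1 : ∀ ρ : Ref B f, ∑ g : FixS B W, Δ ((ρ : UU B) * g) = ∑ g : FixS B W, Δ (g : UU B) := by
      intro ρ
      exact Equiv.sum_comp (Equiv.mulLeft (⟨ρ, hle ρ.2⟩ : FixS B W)) (fun g : FixS B W => Δ (g : UU B))
    have h2 : ∑ ρ : Ref B f, ∑ g : FixS B W, Δ ((ρ : UU B) * g) = 0 := by
      rw [Finset.sum_comm]
      refine Finset.sum_eq_zero fun g _ => ?_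
      rw [← finsum_eq_sum_of_fintype]
      exact hs f hff g
    rw [Finset.sum_congr rfl fun ρ _ => h1 ρ, Finset.sum_const, Finset.card_univ, nsmul_eq_mul] at h2
    refine (mul_eq_zero.1 h2).resolve_left ?_
    exact Nat.cast_ne_zero.2 Fintype.card_ne_zero

theorem wsum (h : HS q σ B) {Δ : UU B → ℂ} (hs : Star Δ)
    (h0 : ∀ E, IsTS B E → ∀ g ∈ FixS B (perp B E), Δ g = 0) (Θ : Submodule F V → ℂ) :
    ∑ᶠ g : UU B, Δ g * Θ (fx g) = 0 := by
  classical
  let _ := Fintype.ofFinite (UU B)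
  have : Finite (Submodule F V) := Finite.of_injective (fun W : Submodule F V => (W : Set V)) SetLike.coe_injective
  let _ := Fintype.ofFinite (Submodule F V)
  have hS : ∀ W : Submodule F V, ∑ W' : Submodule F V, (if W ≤ W' then ∑ g : UU B, (if fx g = W' then Δ g else 0) else 0) = 0 := by
    intro W
    have h1 := sum_FixS h hs h0 W
    let _ := Fintype.ofFinite (FixS B W)
    rw [finsum_eq_sum_of_fintype] at h1
    have h2 : ∑ g : FixS B W, Δ (g : UU B) = ∑ g : UU B, if g ∈ FixS B W then Δ g else 0 := by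
      rw [← Finset.sum_filter]
      refine (Finset.sum_subtype (Finset.univ.filter fun g : UU B => g ∈ FixS B W) (fun g => ?_) Δ).symm
      simp
    rw [h2] at h1
    refine Eq.trans ?_ h1
    have h3 : ∀ g : UU B, (if g ∈ FixS B W then Δ g else 0) =
        ∑ W' : Submodule F V, if W ≤ W' then (if fx g = W' then Δ g else 0) else 0 := by
      intro g
      have e1 : ∀ W' : Submodule F V, (if W ≤ W' then (if fx g = W' then Δ g else 0) else 0) =
          if fx g = W' then (if W ≤ fx g then Δ g else 0) else 0 := by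
        intro W'
        by_cases e : fx g = W'
        · subst e
          simp
        · simp [e]
      rw [Finset.sum_congr rfl fun W' _ => e1 W', Finset.sum_ite_eq Finset.univ (fx g), if_pos (Finset.mem_univ _)]
      rfl
    rw [Finset.sum_congr rfl fun g _ => h3 g, Finset.sum_comm]
    refine Finset.sum_congr rfl fun W' _ => ?_
    split_ifs
    · rfl
    · rw [Finset.sum_const_zero]
  have hT : ∀ W : Submodule F V, ∑ g : UU B, (if fx g = W then Δ g else 0) = 0 := by
    intro W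
    induction W using WellFoundedGT.induction with
    | ind W ih =>
      have h1 := hS W
      rw [Finset.sum_eq_single W] at h1
      · rwa [if_pos le_rfl] at h1
      · intro W' _ hne
        split_ifs with hle
        · exact ih W' (lt_of_le_of_ne hle (Ne.symm hne))
        · rfl
      · intro h2
        exact absurd (Finset.mem_univ _) h2
  rw [finsum_eq_sum_of_fintype]
  have h4 : ∀ g : UU B, Δ g * Θ (fx g) = ∑ W : Submodule F V, Θ W * (if fx g = W then Δ g else 0) := by
    intro g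
    rw [Finset.sum_eq_single (fx g)]
    · rw [if_pos rfl, mul_comm]
    · intro W _ hne
      rw [if_neg (Ne.symm hne), mul_zero]
    · intro h2
      exact absurd (Finset.mem_univ _) h2
  rw [Finset.sum_congr rfl fun g _ => h4 g, Finset.sum_comm]
  refine Finset.sum_eq_zero fun W _ => ?_
  rw [← Finset.mul_sum, hT, mul_zero]

/-! ### ORB -/

omit [Finite F] in
theorem wf_sq (h : HS q σ B) (g : UU B) : (wf q g) ^ 2 = (Nat.card (fx g) : ℂ) := by
  unfold wf
  rw [← pow_mul, mul_comm, pow_mul, neg_sq]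
  have h1 : Nat.card (fx g) = (q ^ 2) ^ finrank F (fx g) := by
    rw [← h.card, ← Module.natCard_eq_pow_finrank]
  rw [h1]
  push_cast
  rfl

omit [Finite V] in
/-- the number of elements of the fixed field -/
theorem card_fixed (h : HS q σ B) : Nat.card {c : F // σ c = c} = q := by
  classical
  have hq := h.two_le
  let _ := Fintype.ofFinite F
  have hcard : Nat.card Fˣ = q ^ 2 - 1 := by rw [Nat.card_units, h.card]
  have h1 : Nat.card (powMonoidHom (q - 1) : Fˣ →* Fˣ).ker = q - 1 := by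
    rw [IsCyclic.card_powMonoidHom_ker, hcard]
    refine Nat.gcd_eq_right ?_
    refine ⟨q + 1, ?_⟩
    obtain ⟨t, rfl⟩ : ∃ t, q = t + 1 := ⟨q - 1, by omega⟩
    rw [Nat.add_sub_cancel]
    have : (t + 1) ^ 2 = t * (t + 1 + 1) + 1 := by ring
    omega
  have h2 : Nat.card {c : F // σ c = c} = Nat.card (Option (powMonoidHom (q - 1) : Fˣ →* Fˣ).ker) := by
    refine Nat.card_congr ?_
    refine Equiv.ofBijective (fun c => if hc : (c : F) = 0 then none else some ⟨Units.mk0 c hc, ?_⟩) ⟨?_, ?_⟩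
    · rw [MonoidHom.mem_ker, powMonoidHom_apply]
      ext
      rw [Units.val_pow_eq_pow_val, Units.val_mk0, Units.val_one]
      have e1 := c.2
      rw [h.sig] at e1
      apply mul_left_cancel₀ hc
      rw [← pow_succ', Nat.sub_add_cancel (by omega), e1, mul_one]
    · intro c d hcd
      by_cases hc : (c : F) = 0
      · by_cases hd : (d : F) = 0
        · exact Subtype.ext (by rw [hc, hd])
        · simp [hc, hd] at hcd
      · by_cases hd : (d : F) = 0
        · simp [hc, hd] at hcd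
        · simp only [hc, hd, dite_false, Option.some.injEq, Subtype.mk.injEq] at hcd
          exact Subtype.ext (by simpa using congrArg Units.val hcd)
    · intro y
      rcases y with _ | ⟨u, hu⟩
      · exact ⟨⟨0, map_zero σ⟩, by simp⟩
      · rw [MonoidHom.mem_ker, powMonoidHom_apply] at hu
        refine ⟨⟨u, ?_⟩, ?_⟩
        · rw [h.sig]
          have e1 : (u : F) ^ (q - 1) = 1 := by rw [← Units.val_pow_eq_pow_val, hu, Units.val_one]
          calc (u : F) ^ q = (u : F) ^ (q - 1 + 1) := by rw [Nat.sub_add_cancel (by omega)]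
            _ = u := by rw [pow_succ, e1, one_mul]
        · simp
  have := Finite.of_injective (fun x : (powMonoidHom (q - 1) : Fˣ →* Fˣ).ker => (x : Fˣ)) Subtype.val_injective
  rw [h2, Finite.card_option, h1, Nat.sub_add_cancel (by omega)]

/-- every norm is attained -/
theorem exists_vec (h : HS q σ B) (hn : 2 ≤ finrank F V) (c : F) (hc : σ c = c) : ∃ x : V, x ≠ 0 ∧ B x x = c := by
  by_cases hc0 : c = 0
  · obtain ⟨t, -, e, he, hee, -⟩ := exists_isTv h hn
    exact ⟨e, he, by rw [hee, hc0]⟩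
  · have hT : ¬ IsTS B (⊤ : Submodule F V) := by
      intro hT
      have : Nontrivial V := Module.nontrivial_of_finrank_pos (R := F) (by omega)
      obtain ⟨x, hx⟩ := exists_ne (0 : V)
      exact hx (h.ext fun y => hT x trivial y trivial)
    obtain ⟨f, -, hf⟩ := exists_unit h hT
    obtain ⟨a, ha, hac⟩ := Cfsg.Agent.ClassicalGeometry.HermWitt.norm_surj σ h.ne_id h.inv c hc hc0
    refine ⟨a • f, ?_, ?_⟩
    · intro h1
      have h2 : f = 0 := (smul_eq_zero.1 h1).resolve_left ha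
      rw [h2, map_zero] at hf
      exact zero_ne_one hf
    · rw [LinearMap.map_smulₛₗ₂, map_smul, smul_eq_mul, smul_eq_mul, hf, mul_one, mul_comm, hac]

/-- the number of orbits on vectors -/
theorem card_orbits (h : HS q σ B) (hn : 2 ≤ finrank F V) :
    Nat.card (MulAction.orbitRel.Quotient (UU B) V) = q + 1 := by
  classical
  have hN : ∀ x : V, σ (B x x) = B x x := fun x => h.sy x x
  let φ : V → Option {c : F // σ c = c} := fun x => if x = 0 then none else some ⟨B x x, hN x⟩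
  have hφ : ∀ x y : V, φ x = φ y ↔ ∃ g : UU B, g • y = x := by
    intro x y
    constructor
    · intro hxy
      by_cases hx : x = 0
      · by_cases hy : y = 0
        · exact ⟨1, by rw [one_smul, hx, hy]⟩
        · simp [φ, hx, hy] at hxy
      · by_cases hy : y = 0
        · simp [φ, hx, hy] at hxy
        · have h1 : B x x = B y y := by
            simpa [φ, hx, hy] using hxy
          obtain ⟨g, hg⟩ := exists_conj_vec h hy hx h1.symm
          exact ⟨g, hg⟩
    · rintro ⟨g, rfl⟩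
      by_cases hy : y = 0
      · rw [hy, smul_zero]
      · have h1 : g • y ≠ 0 := by
          intro h2
          apply hy
          have h3 : g⁻¹ • g • y = g⁻¹ • (0 : V) := by rw [h2]
          rwa [inv_smul_smul, smul_zero] at h3
        simp only [φ, hy, h1, if_false, Option.some.injEq, Subtype.mk.injEq]
        exact form_ac g y y
  have hsurj : Function.Surjective φ := by
    intro c
    rcases c with _ | ⟨c, hc⟩
    · exact ⟨0, by simp [φ]⟩
    · obtain ⟨x, hx, hxc⟩ := exists_vec h hn c hc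
      exact ⟨x, by simp [φ, hx, hxc]⟩
  have h2 : Nat.card (MulAction.orbitRel.Quotient (UU B) V) = Nat.card (Option {c : F // σ c = c}) := by
    refine Nat.card_congr (Equiv.ofBijective (Quotient.lift φ ?_) ⟨?_, ?_⟩)
    · intro x y hxy
      exact (hφ x y).2 (MulAction.mem_orbit_iff.1 (MulAction.orbitRel_apply.1 hxy))
    · intro a b
      refine Quotient.inductionOn₂ a b fun x y hxy => Quotient.sound ?_
      exact MulAction.orbitRel_apply.2 (MulAction.mem_orbit_iff.2 ((hφ x y).1 hxy))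
    · intro c
      obtain ⟨x, hx⟩ := hsurj c
      exact ⟨Quotient.mk _ x, hx⟩
  rw [h2, Finite.card_option, card_fixed h]

theorem sum_sq (h : HS q σ B) (hn : 2 ≤ finrank F V) :
    ∑ᶠ g : UU B, (wf q g) ^ 2 = (q + 1) * Nat.card (UU B) := by
  classical
  let _ := Fintype.ofFinite (UU B)
  let _ := Fintype.ofFinite V
  let _ := Fintype.ofFinite (MulAction.orbitRel.Quotient (UU B) V)
  rw [finsum_eq_sum_of_fintype]
  have h1 := MulAction.sum_card_fixedBy_eq_card_orbits_mul_card_group (UU B) V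
  have h2 : ∀ g : UU B, (wf q g) ^ 2 = (Fintype.card (MulAction.fixedBy V g) : ℂ) := by
    intro g
    rw [wf_sq h, ← Nat.card_eq_fintype_card]
    rfl
  rw [Finset.sum_congr rfl fun g _ => h2 g, ← Nat.cast_sum, h1, Nat.cast_mul, ← Nat.card_eq_fintype_card,
    ← Nat.card_eq_fintype_card, card_orbits h hn, Nat.cast_add, Nat.cast_one]

/-- the stabilizer of a vector contains reflections -/
theorem exists_ref_fix (h : HS q σ B) (hn : 3 ≤ finrank F V) (x : V) :
    ∃ f : V, B f f = 1 ∧ B f x = 0 := by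
  have hW : ¬ IsTS B (perp B (Submodule.span F {x})) := by
    intro hW
    have h1 : perp B (Submodule.span F {x}) ≤ Submodule.span F {x} := by
      rw [← perp_perp h (Submodule.span F {x})]
      nth_rw 1 [perp_perp h (Submodule.span F {x})]
      intro v hv w hw
      exact hW w hw v hv
    have h2 := Submodule.finrank_mono h1
    have h3 := finrank_perp h (Submodule.span F {x})
    have h4 : finrank F (Submodule.span F {x}) ≤ 1 := by
      have := finrank_span_le_card (R := F) ({x} : Set V)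
      simpa using this
    omega
  obtain ⟨f, hf, hff⟩ := exists_unit h hW
  exact ⟨f, hff, h.zero_symm (hf x (Submodule.mem_span_singleton_self x))⟩

theorem sum_sq_dl (h : HS q σ B) (hn : 3 ≤ finrank F V) {κ : Fˣ →* ℂˣ} (hκ : KNT q κ) :
    ∑ᶠ g : UU B, (wf q g) ^ 2 * dl κ g = 0 := by
  classical
  let _ := Fintype.ofFinite (UU B)
  let _ := Fintype.ofFinite V
  rw [finsum_eq_sum_of_fintype]
  have h1 : ∀ g : UU B, (wf q g) ^ 2 * dl κ g = ∑ x : V, if ac B g x = x then dl κ g else 0 := by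
    intro g
    rw [wf_sq h, ← Finset.sum_filter, Finset.sum_const, nsmul_eq_mul]
    congr 2
    rw [Nat.card_eq_fintype_card, Fintype.card_subtype]
    congr 1
  rw [Finset.sum_congr rfl fun g _ => h1 g, Finset.sum_comm]
  refine Finset.sum_eq_zero fun x _ => ?_
  obtain ⟨f, hff, hfx⟩ := exists_ref_fix h hn x
  obtain ⟨a, ha, hκa⟩ := hκ
  have ha' : (a : F) ^ (q + 1) = 1 := by rw [← Units.val_pow_eq_pow_val, ha, Units.val_one]
  obtain ⟨ρ, hρ, hρx⟩ := exists_rf h hff ha'
  obtain ⟨c, -, hc, hdt⟩ := of_mem_Ref h hff hρ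
  have hf0 : f ≠ 0 := by
    rintro rfl
    rw [map_zero] at hff
    exact zero_ne_one hff
  have hca : c = a := by
    have e1 := hρx f
    rw [hc f, hff, mul_one, mul_one] at e1
    have e2 := add_left_cancel e1
    have e3 : (c - 1 - ((a : F) - 1)) • f = 0 := by rw [sub_smul, e2, sub_self]
    have e4 := (smul_eq_zero.1 e3).resolve_right hf0
    linear_combination e4
  have hdl : ∀ g : UU B, dl κ (ρ * g) = κ a * dl κ g := by
    intro g
    have e1 : dt ρ = a := Units.ext (by rw [hdt, hca])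
    unfold dl
    rw [map_mul, map_mul, Units.val_mul, e1]
  have hfix : ∀ g : UU B, ac B (ρ * g) x = x ↔ ac B g x = x := by
    intro g
    have hρ1 : ac B ρ x = x := by rw [hρx, hfx, mul_zero, zero_smul, add_zero]
    constructor
    · intro e
      have e2 : ac B ρ⁻¹ (ac B (ρ * g) x) = ac B ρ⁻¹ x := by rw [e]
      rw [ac_mul, ac_inv_ac] at e2
      rw [e2]
      have e3 : ac B ρ⁻¹ (ac B ρ x) = x := ac_inv_ac ρ x
      rwa [hρ1] at e3
    · intro e
      rw [ac_mul, e, hρ1]
  have h2 : ∑ g : UU B, (if ac B g x = x then dl κ g else 0) = (κ a : ℂ) * ∑ g : UU B, (if ac B g x = x then dl κ g else 0) := by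
    conv_lhs => rw [← Equiv.sum_comp (Equiv.mulLeft ρ) (fun g : UU B => if ac B g x = x then dl κ g else 0)]
    rw [Finset.mul_sum]
    refine Finset.sum_congr rfl fun g _ => ?_
    simp only [Equiv.coe_mulLeft, hfix, hdl, mul_ite, mul_zero]
  have h3 : (1 - (κ a : ℂ)) * ∑ g : UU B, (if ac B g x = x then dl κ g else 0) = 0 := by
    rw [sub_mul, one_mul, ← h2, sub_self]
  refine (mul_eq_zero.1 h3).resolve_left fun h4 => hκa ?_
  ext
  rw [Units.val_one]
  linear_combination -h4

end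

end Cfsg.Agent.H688.CC
end

-- part: H486/CC/Integ
section
/-!
# S4793, INTEG: `χ 1 - χ t` is a multiple of `q ^ (n - 1)` for a transvection `t` of `GU_n(q)`

The unipotent radical `Q` of the stabilizer of a singular vector `e` consists of the maps
`x ↦ x + B(e,x) y - B(y,x) e + k B(e,x) e`, `B e y = 0`, `k + k ^ q + B y y = 0`; modulo the group `Z` of transvections with centre
`e` it is `e^⊥ / e`, and for `u ∉ Z` every element of `Z` is a commutator `[v, u]`.
-/

set_option autoImplicit false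
set_option linter.unusedSectionVars false

open Cfsg
open scoped ComplexConjugate

namespace Cfsg.Agent.H486.CCInteg

open Module Cfsg.Agent.H603.CC Cfsg.Agent.ClassicalGeometry.HermWitt Cfsg.Agent.Characters.Core
  Cfsg.Agent.CharactersDeep.MackeyLinear

universe u v

variable {F : Type u} {V : Type v} [Field F] [AddCommGroup V] [Module F V] {q : ℕ} {σ : F →+* F}
  {B : V →ₛₗ[σ] V →ₗ[F] F} [Finite F] [Finite V]

variable (B) in
/-- `g` is `x ↦ x + B(e,x) y - B(y,x) e + k B(e,x) e` -/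
def IsT (e y : V) (k : F) (g : UU B) : Prop := ∀ x, ac B g x = x + B e x • y - B y x • e + (k * B e x) • e

theorem IsT.mul (h : HS q σ B) {e y y' : V} {k k' : F} {g g' : UU B} (he : B e e = 0) (hy : B e y = 0)
    (hy' : B e y' = 0) (hg : IsT B e y k g) (hg' : IsT B e y' k' g') :
    IsT B e (y + y') (k + k' - B y y') (g * g') := by
  intro x
  have hye : B y e = 0 := h.zero_symm hy
  rw [ac_mul, hg, hg']
  simp only [map_add, map_sub, map_smul, he, hy', hye, smul_eq_mul, mul_zero, add_zero, sub_zero, LinearMap.add_apply]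
  module

theorem exists_isT (h : HS q σ B) {e y : V} {k : F} (he : B e e = 0) (hy : B e y = 0) (hk : k + σ k + B y y = 0) :
    ∃ g : UU B, IsT B e y k g := by
  have hye : B y e = 0 := h.zero_symm hy
  let T : V →ₗ[F] V := LinearMap.id + (B e).smulRight (y + k • e) - (B y).smulRight e
  have hT : ∀ x, T x = x + B e x • y - B y x • e + (k * B e x) • e := by
    intro x
    simp only [T, LinearMap.sub_apply, LinearMap.add_apply, LinearMap.id_apply, LinearMap.smulRight_apply]
    module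
  have hB : ∀ x z, B (T x) (T z) = B x z := by
    intro x z
    rw [hT, hT]
    simp only [map_add, map_sub, map_smulₛₗ, he, hy, hye, smul_eq_mul, mul_zero, add_zero, sub_zero,
      LinearMap.add_apply, LinearMap.sub_apply, LinearMap.smul_apply, map_mul, RingHom.id_apply, h.sy]
    linear_combination (B x e * B e z) * hk
  have hinj : Function.Injective T := by
    rw [← LinearMap.ker_eq_bot, LinearMap.ker_eq_bot']
    intro x hx
    apply h.ext
    intro z
    rw [← hB, hx, map_zero, LinearMap.zero_apply]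
  exact ⟨mkU (LinearEquiv.ofInjectiveEndo T hinj) hB, hT⟩

theorem IsT.ext {e y : V} {k : F} {g g' : UU B} (hg : IsT B e y k g) (hg' : IsT B e y k g') : g = g' :=
  ac_ext fun x => by rw [hg, hg']

theorem isT_one (e : V) : IsT B e 0 0 (1 : UU B) := fun x => by
  rw [ac_one, map_zero, LinearMap.zero_apply, smul_zero, zero_smul, zero_mul, zero_smul, add_zero, sub_zero, add_zero]

theorem isT_tv {e : V} {k : F} {g : UU B} : IsT B e 0 k g ↔ ∀ x, ac B g x = x + (k * B e x) • e := by
  refine forall_congr' fun x => ?_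
  rw [map_zero, LinearMap.zero_apply, smul_zero, zero_smul, add_zero, sub_zero]

/-- the unipotent radical of the stabilizer of a singular vector -/
def QQ (h : HS q σ B) {e : V} (he : B e e = 0) : Subgroup (UU B) where
  carrier := {g | ∃ (y : V) (k : F), B e y = 0 ∧ k + σ k + B y y = 0 ∧ IsT B e y k g}
  mul_mem' := by
    rintro g g' ⟨y, k, hy, hk, hg⟩ ⟨y', k', hy', hk', hg'⟩
    refine ⟨y + y', k + k' - B y y', by rw [map_add, hy, hy', add_zero], ?_, IsT.mul h he hy hy' hg hg'⟩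
    rw [map_sub, map_add, h.sy, map_add, LinearMap.map_add, LinearMap.add_apply, LinearMap.add_apply]
    linear_combination hk + hk'
  one_mem' := ⟨0, 0, map_zero _, by simp, isT_one e⟩
  inv_mem' := by
    rintro g ⟨y, k, hy, hk, hg⟩
    have hfix : ∀ a : F, σ (σ a) = a := h.inv
    have hk' : σ k + σ (σ k) + B (-y) (-y) = 0 := by
      rw [hfix, map_neg, map_neg, LinearMap.neg_apply, neg_neg, ← hk]
      ring
    have hy' : B e (-y) = 0 := by rw [map_neg, hy, neg_zero]
    obtain ⟨g', hg'⟩ := exists_isT h he hy' hk'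
    have h1 : g * g' = 1 := by
      have h2 := IsT.mul h he hy hy' hg hg'
      rw [add_neg_cancel, map_neg, sub_neg_eq_add, hk] at h2
      exact h2.ext (isT_one e)
    rw [inv_eq_of_mul_eq_one_right h1]
    exact ⟨-y, σ k, hy', hk', hg'⟩

theorem mem_QQ (h : HS q σ B) {e : V} (he : B e e = 0) {g : UU B} :
    g ∈ QQ h he ↔ ∃ (y : V) (k : F), B e y = 0 ∧ k + σ k + B y y = 0 ∧ IsT B e y k g := Iff.rfl

theorem exists_mem_QQ (h : HS q σ B) {e y : V} (he : B e e = 0) (hy : B e y = 0) :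
    ∃ g ∈ QQ h he, ∃ k, k + σ k + B y y = 0 ∧ IsT B e y k g := by
  obtain ⟨k, hk⟩ := trace_surj σ h.ne_id h.inv (-(B y y)) (by rw [map_neg, h.sy])
  have hk' : k + σ k + B y y = 0 := by rw [hk, neg_add_cancel]
  obtain ⟨g, hg⟩ := exists_isT h he hy hk'
  exact ⟨g, ⟨y, k, hy, hk', hg⟩, k, hk', hg⟩

theorem mem_Ref_of_isT {e y : V} {k : F} {g : UU B} (hg : IsT B e y k g) (hy : y ∈ Submodule.span F {e}) : g ∈ Ref B e := by
  obtain ⟨c, rfl⟩ := Submodule.mem_span_singleton.1 hy
  intro x hx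
  have h1 : B e x = 0 := hx e (Submodule.mem_span_singleton_self e)
  have h2 : B (c • e) x = 0 := by
    rw [map_smulₛₗ, LinearMap.smul_apply, h1, smul_zero]
  rw [hg x, h1, h2, zero_smul, zero_smul, mul_zero, zero_smul, add_zero, sub_zero, add_zero]

/-- partner vector -/
theorem exists_partner (h : HS q σ B) {e : V} (he0 : e ≠ 0) : ∃ f, B e f = 1 := by
  obtain ⟨x, hx⟩ : ∃ x, B e x ≠ 0 := by
    by_contra hc
    push Not at hc
    exact he0 (h.ext hc)
  exact ⟨(B e x)⁻¹ • x, by rw [map_smul, smul_eq_mul, inv_mul_cancel₀ hx]⟩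

/-- a vector orthogonal to `e^⊥` is a multiple of `e` -/
theorem mem_span_of_perp (h : HS q σ B) {e y : V} (he0 : e ≠ 0) (hy : ∀ w, B e w = 0 → B w y = 0) :
    y ∈ Submodule.span F {e} := by
  obtain ⟨f, hf⟩ := exists_partner h he0
  refine Submodule.mem_span_singleton.2 ⟨σ (B y f), ?_⟩
  symm
  rw [← sub_eq_zero]
  apply h.ext
  intro x
  have h1 : B y (x - B e x • f) = 0 := by
    apply h.zero_symm
    apply hy
    rw [map_sub, map_smul, hf, smul_eq_mul, mul_one, sub_self]
  have h2 : B y x = B e x * B y f := by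
    rw [map_sub, map_smul, smul_eq_mul, sub_eq_zero] at h1
    exact h1
  rw [map_sub, LinearMap.sub_apply, map_smulₛₗ, LinearMap.smul_apply, h.inv, h2, smul_eq_mul, mul_comm, sub_self]

theorem exists_tv' (h : HS q σ B) {e : V} (he : B e e = 0) {k : F} (hk : k + k ^ q = 0) :
    ∃ t ∈ Ref B e, ∀ x, ac B t x = x + (k * B e x) • e := by
  obtain ⟨g, hg⟩ := exists_isT h (y := 0) (k := k) he (map_zero _) (by rw [h.sig, hk, map_zero, add_zero])
  exact ⟨g, mem_Ref_of_isT hg (zero_mem _), isT_tv.1 hg⟩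

theorem of_mem_Ref_tv' (h : HS q σ B) {e : V} (he0 : e ≠ 0) (he : B e e = 0) {t : UU B} (ht : t ∈ Ref B e) :
    ∃ k : F, k + k ^ q = 0 ∧ ∀ x, ac B t x = x + (k * B e x) • e := by
  obtain ⟨f, hf⟩ := exists_partner h he0
  have hfix : ∀ w, B e w = 0 → ac B t w = w := by
    intro w hw
    apply ht
    intro c hc
    obtain ⟨a, rfl⟩ := Submodule.mem_span_singleton.1 hc
    rw [map_smulₛₗ, LinearMap.smul_apply, hw, smul_zero]
  have h1 : ac B t f - f ∈ Submodule.span F {e} := by
    apply mem_span_of_perp h he0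
    intro w hw
    have h2 := form_ac t w f
    rw [hfix w hw] at h2
    rw [map_sub, h2, sub_self]
  obtain ⟨k, hk⟩ := Submodule.mem_span_singleton.1 h1
  have hk' : ac B t f = f + k • e := by rw [hk]; abel
  have hfe : B f e = 1 := by rw [← h.sy, hf, map_one]
  refine ⟨k, ?_, ?_⟩
  · have h3 := form_ac t f f
    rw [hk'] at h3
    simp only [map_add, map_smulₛₗ, LinearMap.add_apply, LinearMap.smul_apply, he, hf, hfe, h.sig, smul_eq_mul,
      RingHom.id_apply, mul_zero, mul_one, add_zero] at h3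
    linear_combination h3
  · intro x
    have h4 : ac B t (x - B e x • f) = x - B e x • f := by
      apply hfix
      rw [map_sub, map_smul, hf, smul_eq_mul, mul_one, sub_self]
    rw [ac_sub, ac_smul, hk'] at h4
    rw [sub_eq_iff_eq_add.1 h4]
    module

/-- transvections with the same centre are conjugate -/
theorem isConj_tv' (h : HS q σ B) {e : V} (he0 : e ≠ 0) (he : B e e = 0) {s t : UU B} (hs : s ∈ Ref B e)
    (hs1 : s ≠ 1) (ht : t ∈ Ref B e) (ht1 : t ≠ 1) : IsConj s t := by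
  have hne : ∀ {g : UU B} {k : F}, g ≠ 1 → (∀ x, ac B g x = x + (k * B e x) • e) → k ≠ 0 := by
    rintro g k hg hg' rfl
    exact hg (ac_ext fun x => by rw [hg', zero_mul, zero_smul, add_zero, ac_one])
  obtain ⟨k, hk, hsk⟩ := of_mem_Ref_tv' h he0 he hs
  obtain ⟨l, hl, htl⟩ := of_mem_Ref_tv' h he0 he ht
  have hk0 := hne hs1 hsk
  have hl0 := hne ht1 htl
  obtain ⟨c, hc0, hc⟩ := norm_surj σ h.ne_id h.inv (l / k) (by
    rw [map_div₀, h.sig, h.sig, eq_neg_of_add_eq_zero_right hk, eq_neg_of_add_eq_zero_right hl, neg_div_neg_eq])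
    (div_ne_zero hl0 hk0)
  obtain ⟨g, hg, hge⟩ := exists_extension σ B h.ne_id h.inv h.symm h.sep (Submodule.span F {e})
    (c • (Submodule.span F {e}).subtype)
    (fun x y hxy => Subtype.ext (smul_right_injective V hc0 hxy)) (by
      intro x x'
      obtain ⟨a, ha⟩ := Submodule.mem_span_singleton.1 x.2
      obtain ⟨b, hb⟩ := Submodule.mem_span_singleton.1 x'.2
      rw [LinearMap.smul_apply, LinearMap.smul_apply, Submodule.subtype_apply, Submodule.subtype_apply, ← ha, ← hb]
      simp only [map_smul, map_smulₛₗ, LinearMap.smul_apply, he, smul_zero])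
  have hge' : g e = c • e := hge ⟨e, Submodule.mem_span_singleton_self e⟩
  set γ : UU B := mkU g hg with hγ
  have hγe : ac B γ e = c • e := hge'
  refine isConj_iff.2 ⟨γ, ?_⟩
  rw [mul_inv_eq_iff_eq_mul]
  apply ac_ext
  intro x
  rw [ac_mul, ac_mul, hsk, htl, ac_add, ac_smul, hγe]
  have h5 : B e (ac B γ x) = σ c⁻¹ * B e x := by
    rw [← form_ac γ e x, hγe, map_smulₛₗ, LinearMap.smul_apply, smul_eq_mul, ← mul_assoc, ← map_mul,
      inv_mul_cancel₀ hc0, map_one, one_mul]
  rw [h5, smul_smul, add_right_inj]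
  congr 1
  rw [eq_div_iff hk0] at hc
  rw [← hc, map_inv₀]
  have h6 : σ c ≠ 0 := (map_ne_zero σ).2 hc0
  field_simp

theorem Ref_le_QQ (h : HS q σ B) {e : V} (he0 : e ≠ 0) (he : B e e = 0) : Ref B e ≤ QQ h he := by
  intro t ht
  obtain ⟨k, hk, ht'⟩ := of_mem_Ref_tv' h he0 he ht
  exact ⟨0, k, map_zero _, by rw [h.sig, hk, map_zero, add_zero], isT_tv.2 ht'⟩

theorem IsT.apply {e f y : V} {k : F} {g : UU B} (hf : B e f = 1) (hg : IsT B e y k g) :
    (Submodule.span F {e}).mkQ (ac B g f - f) = (Submodule.span F {e}).mkQ y := by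
  rw [hg f, hf, one_smul, mul_one, ← sub_eq_zero, ← map_sub, Submodule.mkQ_apply, Submodule.Quotient.mk_eq_zero,
    Submodule.mem_span_singleton]
  exact ⟨-(B y f) + k, by module⟩

/-- the projection to `V / e` -/
noncomputable def pi (h : HS q σ B) {e f : V} (he : B e e = 0) (hf : B e f = 1) :
    QQ h he →* Multiplicative (V ⧸ Submodule.span F {e}) where
  toFun g := Multiplicative.ofAdd ((Submodule.span F {e}).mkQ (ac B (g : UU B) f - f))
  map_one' := by
    rw [OneMemClass.coe_one, ac_one, sub_self, map_zero]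
    rfl
  map_mul' := by
    rintro ⟨g, y, k, hy, hk, hg⟩ ⟨g', y', k', hy', hk', hg'⟩
    change Multiplicative.ofAdd ((Submodule.span F {e}).mkQ (ac B (g * g') f - f)) = _
    rw [IsT.apply hf (IsT.mul h he hy hy' hg hg'), IsT.apply hf hg, IsT.apply hf hg', map_add]
    rfl

theorem pi_apply (h : HS q σ B) {e f y : V} {k : F} (he : B e e = 0) (hf : B e f = 1) {g : UU B} (hgQ : g ∈ QQ h he)
    (hg : IsT B e y k g) : pi h he hf ⟨g, hgQ⟩ = Multiplicative.ofAdd ((Submodule.span F {e}).mkQ y) := by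
  change Multiplicative.ofAdd ((Submodule.span F {e}).mkQ (ac B g f - f)) = _
  rw [IsT.apply hf hg]

theorem ker_pi (h : HS q σ B) {e f : V} (he0 : e ≠ 0) (he : B e e = 0) (hf : B e f = 1) :
    (pi h he hf).ker = (Ref B e).subgroupOf (QQ h he) := by
  ext ⟨g, hgQ⟩
  rw [MonoidHom.mem_ker, Subgroup.mem_subgroupOf]
  constructor
  · intro h1
    obtain ⟨y, k, hy, hk, hg⟩ := (mem_QQ h he).1 hgQ
    rw [pi_apply h he hf _ hg] at h1
    refine mem_Ref_of_isT hg ?_
    have h2 : (Submodule.span F {e}).mkQ y = 0 := Multiplicative.ofAdd.injective h1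
    rwa [Submodule.mkQ_apply, Submodule.Quotient.mk_eq_zero] at h2
  · intro h1
    obtain ⟨k, hk, ht'⟩ := of_mem_Ref_tv' h he0 he h1
    rw [pi_apply h he hf _ (isT_tv.2 ht'), map_zero]
    rfl

theorem card_range_pi (h : HS q σ B) {e f : V} (he0 : e ≠ 0) (he : B e e = 0) (hf : B e f = 1) :
    Nat.card (pi h he hf).range = (q ^ 2) ^ (finrank F V - 2) := by
  have h1 : Nat.card (pi h he hf).range
      = Nat.card ((perp B (Submodule.span F {e})).map (Submodule.span F {e}).mkQ) := by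
    refine Nat.card_congr (Equiv.subtypeEquiv Multiplicative.toAdd fun a => ?_)
    constructor
    · rintro ⟨⟨g, hgQ⟩, rfl⟩
      obtain ⟨y, k, hy, hk, hg⟩ := (mem_QQ h he).1 hgQ
      rw [pi_apply h he hf _ hg]
      refine ⟨y, ?_, rfl⟩
      intro w hw
      obtain ⟨c, rfl⟩ := Submodule.mem_span_singleton.1 hw
      rw [map_smulₛₗ, LinearMap.smul_apply, hy, smul_zero]
    · rintro ⟨y, hy, hya⟩
      obtain ⟨g, hgQ, k, hk, hg⟩ := exists_mem_QQ h he (hy e (Submodule.mem_span_singleton_self e))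
      refine ⟨⟨g, hgQ⟩, ?_⟩
      rw [pi_apply h he hf _ hg, hya]
      rfl
  have hle : Submodule.span F {e} ≤ perp B (Submodule.span F {e}) := by
    intro x hx w hw
    obtain ⟨c, rfl⟩ := Submodule.mem_span_singleton.1 hx
    obtain ⟨d, rfl⟩ := Submodule.mem_span_singleton.1 hw
    rw [map_smul, map_smulₛₗ, LinearMap.smul_apply, he, smul_zero, smul_zero]
  have h2 := LinearMap.finrank_range_add_finrank_ker
    ((Submodule.span F {e}).mkQ.domRestrict (perp B (Submodule.span F {e})))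
  rw [LinearMap.range_domRestrict, LinearMap.ker_domRestrict, Submodule.ker_mkQ,
    (Submodule.comapSubtypeEquivOfLe hle).finrank_eq, finrank_span_singleton he0] at h2
  have h3 : finrank F (perp B (Submodule.span F {e})) + 1 = finrank F V := by
    have h4 : perp B (Submodule.span F {e}) = LinearMap.ker (B e) := by
      ext x
      rw [LinearMap.mem_ker]
      constructor
      · exact fun hx => hx e (Submodule.mem_span_singleton_self e)
      · intro hx w hw
        obtain ⟨c, rfl⟩ := Submodule.mem_span_singleton.1 hw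
        rw [map_smulₛₗ, LinearMap.smul_apply, hx, smul_zero]
    have h5 : finrank F (LinearMap.range (B e)) = 1 := by
      have h6 : LinearMap.range (B e) = ⊤ := by
        rw [LinearMap.range_eq_top]
        intro a
        exact ⟨a • f, by rw [map_smul, hf, smul_eq_mul, mul_one]⟩
      rw [h6, finrank_top, finrank_self]
    rw [h4, ← h5, add_comm, LinearMap.finrank_range_add_finrank_ker]
  rw [h1, Module.natCard_eq_pow_finrank (K := F), h.card]
  congr 1
  omega

theorem card_Ref_tv (h : HS q σ B) {e : V} (he0 : e ≠ 0) (he : B e e = 0) : Nat.card (Ref B e) = q := by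
  have := Fintype.ofFinite F
  have hF : Fintype.card F = q ^ 2 := by rw [← Nat.card_eq_fintype_card, h.card]
  obtain ⟨f, hf⟩ := exists_partner h he0
  refine Eq.trans ?_ (Cfsg.Agent.H667.TwoPSUModel.card_trace_zero hF)
  symm
  choose t ht ht' using fun k : {x : F // x + x ^ q = 0} => exists_tv' h he k.2
  refine Nat.card_eq_of_bijective (fun k => (⟨t k, ht k⟩ : Ref B e)) ⟨?_, ?_⟩
  · intro k k' hkk
    have h1 : t k = t k' := congrArg Subtype.val hkk
    have h2 := ht' k f
    rw [h1, ht' k' f, hf, mul_one, mul_one] at h2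
    exact Subtype.ext (smul_left_injective F he0 (add_left_cancel h2)).symm
  · rintro ⟨g, hg⟩
    obtain ⟨k, hk, hg'⟩ := of_mem_Ref_tv' h he0 he hg
    exact ⟨⟨k, hk⟩, Subtype.ext (ac_ext fun x => by rw [ht', hg'])⟩

theorem card_QQ (h : HS q σ B) {e : V} (he0 : e ≠ 0) (he : B e e = 0) :
    Nat.card (QQ h he) = (q ^ (finrank F V - 2)) ^ 2 * Nat.card ((Ref B e).subgroupOf (QQ h he)) := by
  obtain ⟨f, hf⟩ := exists_partner h he0
  rw [← Subgroup.card_mul_index (pi h he hf).ker, Subgroup.index_ker, card_range_pi h he0 he hf, ker_pi h he0 he hf,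
    mul_comm, ← pow_mul, ← pow_mul, mul_comm 2]

theorem central (h : HS q σ B) {e : V} (he0 : e ≠ 0) (he : B e e = 0) :
    ∀ z ∈ (Ref B e).subgroupOf (QQ h he), ∀ g, g * z = z * g := by
  rintro ⟨z, hzQ⟩ hz ⟨g, hgQ⟩
  obtain ⟨y, k, hy, hk, hg⟩ := hgQ
  obtain ⟨c, hc, hz'⟩ := of_mem_Ref_tv' h he0 he (Subgroup.mem_subgroupOf.1 hz)
  have hz1 : IsT B e 0 c z := isT_tv.2 hz'
  apply Subtype.ext
  have h1 := IsT.mul h he hy (map_zero _) hg hz1
  have h2 := IsT.mul h he (map_zero _) hy hz1 hg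
  rw [add_zero, map_zero, sub_zero] at h1
  rw [zero_add, map_zero, LinearMap.zero_apply, sub_zero, add_comm c k] at h2
  exact h1.ext h2

theorem exists_commutator (h : HS q σ B) {e : V} (he0 : e ≠ 0) (he : B e e = 0) :
    ∀ u, u ∉ (Ref B e).subgroupOf (QQ h he) → ∀ z ∈ (Ref B e).subgroupOf (QQ h he), ∃ v, v * u * v⁻¹ = u * z := by
  rintro ⟨u, hu⟩ huZ ⟨z, hzQ⟩ hz
  obtain ⟨y, k, hy, hk, hg⟩ := hu
  obtain ⟨c, hc, hz'⟩ := of_mem_Ref_tv' h he0 he (Subgroup.mem_subgroupOf.1 hz)
  have hz1 : IsT B e 0 c z := isT_tv.2 hz'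
  have hy' : y ∉ Submodule.span F {e} := fun hy1 => huZ (Subgroup.mem_subgroupOf.2 (mem_Ref_of_isT hg hy1))
  obtain ⟨w, hew, hwy⟩ : ∃ w, B e w = 0 ∧ B w y ≠ 0 := by
    by_contra hc
    push Not at hc
    exact hy' (mem_span_of_perp h he0 hc)
  have hyw : B y w ≠ 0 := fun h0 => hwy (h.zero_symm h0)
  obtain ⟨θ, hθ⟩ := trace_surj σ h.ne_id h.inv 1 (map_one σ)
  set y' := (θ * c / B y w) • w with hy'def
  have h1 : B y y' = θ * c := by
    rw [hy'def, map_smul, smul_eq_mul, div_mul_cancel₀ _ hyw]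
  have h2 : B y' y = σ (θ * c) := by rw [← h1, h.sy]
  have h3 : B e y' = 0 := by rw [hy'def, map_smul, hew, smul_zero]
  obtain ⟨v, hvQ, k', hk', hv⟩ := exists_mem_QQ h he h3
  refine ⟨⟨v, hvQ⟩, ?_⟩
  rw [mul_inv_eq_iff_eq_mul]
  apply Subtype.ext
  change v * u = u * z * v
  have h4 := IsT.mul h he h3 hy hv hg
  have h5 := IsT.mul h he (by rw [map_add, hy, map_zero, add_zero]) h3 (IsT.mul h he hy (map_zero _) hg hz1) hv
  have h6 : k + c - B y 0 + k' - B (y + 0) y' = k' + k - B y' y := by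
    rw [map_zero, add_zero, h1, h2, map_mul, h.sig c]
    linear_combination (-c) * hθ + σ θ * hc
  rw [h6, add_zero, add_comm y y'] at h5
  exact h4.ext h5

theorem exists_hom {Z : Type*} [Group Z] [Finite Z] (hZ : ∀ a b : Z, a * b = b * a) {a : Z} (ha : a ≠ 1) :
    ∃ ψ : Z →* ℂˣ, ψ a ≠ 1 := by
  let _ : CommGroup Z := { (inferInstance : Group Z) with mul_comm := hZ }
  exact CommGroup.exists_apply_ne_one_of_hasEnoughRootsOfUnity Z ℂ ha

theorem sum_hom {Z : Type*} [Group Z] [Fintype Z] {ψ : Z →* ℂˣ} {a : Z} (ha : ψ a ≠ 1) :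
    ∑ z : Z, (((ψ z)⁻¹ : ℂˣ) : ℂ) = 0 := by
  have h1 : (((ψ a)⁻¹ : ℂˣ) : ℂ) * ∑ z : Z, (((ψ z)⁻¹ : ℂˣ) : ℂ) = ∑ z : Z, (((ψ z)⁻¹ : ℂˣ) : ℂ) := by
    rw [Finset.mul_sum]
    refine Fintype.sum_equiv (Equiv.mulRight a) _ _ fun z => ?_
    rw [Equiv.coe_mulRight, map_mul, mul_inv_rev, Units.val_mul]
  have h2 : (((ψ a)⁻¹ : ℂˣ) : ℂ) ≠ 1 := fun h => ha (by
    have h3 : (ψ a)⁻¹ = 1 := Units.ext h
    rwa [inv_eq_one] at h3)
  have h4 : ((((ψ a)⁻¹ : ℂˣ) : ℂ) - 1) * ∑ z : Z, (((ψ z)⁻¹ : ℂˣ) : ℂ) = 0 := by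
    rw [sub_mul, h1, one_mul, sub_self]
  exact (mul_eq_zero.1 h4).resolve_left (sub_ne_zero.2 h2)

/-- **INTEG.** -/
theorem integrality (h : HS q σ B) (hn3 : 3 ≤ finrank F V) {χ : UU B → ℂ} (hχ : IsCharacter (UU B) χ)
    {t : UU B} (ht : IsTv t) : ∃ b : ℕ, χ 1 - χ t = b * (q : ℂ) ^ (finrank F V - 1) := by
  classical
  have ht' := ht
  obtain ⟨ht1, e, he0, he, hte⟩ := ht'
  have hq := h.two_le
  set P := QQ h he with hP
  set Z := (Ref B e).subgroupOf P with hZ
  have := Fintype.ofFinite P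
  have := Fintype.ofFinite Z
  have hcen := central h he0 he
  have hΘ : IsCharacter P (fun p : P => χ p) := isCharacter_comp P.subtype hχ
  have hcardZ : Nat.card Z = q := by
    rw [← card_Ref_tv h he0 he]
    exact Nat.card_congr (Subgroup.subgroupOfEquivOfLe (Ref_le_QQ h he0 he)).toEquiv
  obtain ⟨n, m, hn, hm, hd, hmn⟩ := Cfsg.Agent.H664.R1.Heis.dvd_sub hcen (exists_commutator h he0 he) (card_QQ h he0 he) hΘ
  -- values on `Z`
  have hval : ∀ z : Z, z ≠ 1 → χ ((z : P) : UU B) = χ t := by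
    intro z hz
    obtain ⟨g, hg⟩ := isConj_iff.1 (isConj_tv' h he0 he hte ht1 (Subgroup.mem_subgroupOf.1 z.2)
      fun h1 => hz (Subtype.ext (Subtype.ext h1)))
    rw [← hg]
    exact isCharacter_isClassFunction hχ t g
  -- a nontrivial character of `Z`
  let t0 : Z := ⟨⟨t, Ref_le_QQ h he0 he hte⟩, Subgroup.mem_subgroupOf.2 hte⟩
  have ht0 : t0 ≠ 1 := fun h1 => ht1 (congrArg (fun z : Z => ((z : P) : UU B)) h1)
  obtain ⟨ψ, hψ⟩ := exists_hom (fun a b : Z => Subtype.ext (hcen b b.2 a)) ht0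
  obtain ⟨m', hm'⟩ := Cfsg.Agent.H40.GG.exists_mult_lin Z ψ hΘ
  have hs1 : ∑ z : Z, χ ((z : P) : UU B) = χ 1 + (q - 1) * χ t := by
    have h1 : ∑ z : Z, (χ ((z : P) : UU B) - χ t) = χ 1 - χ t := by
      rw [Finset.sum_eq_single 1 (fun z _ hz => by rw [hval z hz, sub_self])
        (fun h1 => absurd (Finset.mem_univ _) h1)]
      rfl
    rw [Finset.sum_sub_distrib, Finset.sum_const, Finset.card_univ, ← Nat.card_eq_fintype_card, hcardZ, nsmul_eq_mul] at h1
    linear_combination h1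
  have hs2 : ∑ z : Z, (((ψ z)⁻¹ : ℂˣ) : ℂ) * χ ((z : P) : UU B) = χ 1 - χ t := by
    have h1 : ∑ z : Z, (((ψ z)⁻¹ : ℂˣ) : ℂ) * (χ ((z : P) : UU B) - χ t) = χ 1 - χ t := by
      rw [Finset.sum_eq_single 1 (fun z _ hz => by rw [hval z hz, sub_self, mul_zero])
        (fun h1 => absurd (Finset.mem_univ _) h1), map_one, inv_one, Units.val_one, one_mul]
      rfl
    simp only [mul_sub] at h1
    rw [Finset.sum_sub_distrib, ← Finset.sum_mul, sum_hom hψ, zero_mul, sub_zero] at h1
    exact h1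
  rw [hs1, hcardZ] at hm
  rw [hs2, hcardZ] at hm'
  have hn' : χ 1 = n := hn
  -- `n - m = (q - 1) m'`
  have hq0 : (q : ℂ) ≠ 0 := by
    have : q ≠ 0 := by omega
    exact_mod_cast this
  have h1 : (n : ℂ) - m = (q - 1) * m' := by
    apply mul_left_cancel₀ hq0
    rw [← hn']
    linear_combination hm + (q - 1) * hm'
  have h2 : (n : ℤ) - m = ((q - 1 : ℕ) : ℤ) * m' := by
    have h3 : ((((n : ℤ) - m : ℤ)) : ℂ) = ((((q - 1 : ℕ) : ℤ) * m' : ℤ) : ℂ) := by
      push_cast [Nat.cast_sub (by omega : 1 ≤ q)]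
      exact h1
    exact_mod_cast h3
  rw [h2] at hd
  have h4 : (q ^ (finrank F V - 2) : ℕ) ∣ m' := by
    have h5 : q ^ (finrank F V - 2) ∣ (q - 1) * m' := by exact_mod_cast hd
    refine Nat.Coprime.dvd_of_dvd_mul_left ?_ h5
    apply Nat.Coprime.pow_left
    have h6 : q - 1 + 1 = q := by omega
    rw [← h6]
    simp
  obtain ⟨b, rfl⟩ := h4
  refine ⟨b, ?_⟩
  rw [hm']
  have h7 : finrank F V - 1 = finrank F V - 2 + 1 := by omega
  rw [h7, pow_succ]
  push_cast
  ring

end Cfsg.Agent.H486.CCInteg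
end

-- part: H458/CC/AbsWeil
section
/-!
# The decomposition of the Weil character (abstract form)

`om` is a real class function on a finite group, `P` (no fixed vectors for the reflections) a property of the
irreducible characters, `S` a linear condition on functions.  The hypotheses `Wd` say that class functions with
`S` are combinations of the irreducible characters with `P`, that a class function with `S` which vanishes at `1` and `t` is
orthogonal to `om`, etc.  Conclusion: `om` is the sum of the irreducible characters `χ` with `P χ`, each with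
multiplicity `(χ 1 - χ t) / c`.
-/

set_option autoImplicit false

open Cfsg
open scoped ComplexConjugate

namespace Cfsg.Agent.H458.CC.AbsWeil

open Cfsg.Agent.Characters.Core Cfsg.Agent.Characters.Linear

universe u

variable {G : Type u} [Group G]

/-- The product of an irreducible character and a linear character. -/
theorem isIrr_mul_hom [Finite G] {χ : G → ℂ} (hχ : IsIrrCharacter G χ) (f : G →* ℂˣ) :
    IsIrrCharacter G (fun g => χ g * (f g : ℂ)) := by
  have := Fintype.ofFinite G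
  refine isIrr_of_classInner_self (isCharacter_mul (isIrr_isCharacter hχ) (isCharacter_hom f)) ?_
  rw [← classInner_irr_self hχ, classInner_def, classInner_def]
  congr 1
  refine Finset.sum_congr rfl fun g _ => ?_
  have h1 : (f g : ℂ) * conj (f g : ℂ) = 1 := by
    rw [Complex.mul_conj, Complex.normSq_eq_norm_sq, norm_hom_apply]
    simp
  show χ g * (f g : ℂ) * conj (χ g * (f g : ℂ)) = _
  rw [map_mul]
  linear_combination (χ g * conj (χ g)) * h1

/-- The data. -/
structure Wd [Fintype G] (om : G → ℂ) (P S : (G → ℂ) → Prop) (t : G) (c N : ℂ) : Prop where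
  om_cl : IsClassFunction G om
  om_re : ∀ g, conj (om g) = om g
  S_om : S om
  S_P : ∀ χ, IsIrrCharacter G χ → P χ → S χ
  S_sub : ∀ a b, S a → S b → S (a - b)
  S_smul : ∀ (c : ℂ) a, S a → S (c • a)
  perp : ∀ Δ, IsClassFunction G Δ → S Δ → ∀ χ, IsIrrCharacter G χ → ¬ P χ → classInner Δ χ = 0
  zero : ∀ Δ, IsClassFunction G Δ → S Δ → Δ 1 = 0 → Δ t = 0 → classInner Δ om = 0
  om_om : classInner om om = N
  om_t : om 1 - om t = N * c
  c0 : c ≠ 0
  N0 : N ≠ 0
  int : ∀ χ, IsIrrCharacter G χ → ∃ b : ℕ, χ 1 - χ t = b * c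

namespace Wd

variable [Fintype G] {om : G → ℂ} {P S : (G → ℂ) → Prop} {t : G} {c N : ℂ}

omit [Fintype G] in
theorem cl_sub {a b : G → ℂ} (ha : IsClassFunction G a) (hb : IsClassFunction G b) :
    IsClassFunction G (a - b) := fun g h => by
  rw [Pi.sub_apply, Pi.sub_apply, ha g h, hb g h]

omit [Fintype G] in
theorem cl_smul {a : G → ℂ} (x : ℂ) (ha : IsClassFunction G a) : IsClassFunction G (x • a) := fun g h => by
  rw [Pi.smul_apply, Pi.smul_apply, ha g h]

/-- First step: the inner product with `om`, up to an unknown constant. -/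
theorem inner_eq (W : Wd om P S t c N) {δ : G →* ℂˣ} (hδ : P (fun g => (δ g : ℂ))) (hδt : δ t = 1)
    {χ : G → ℂ} (hχ : IsIrrCharacter G χ) (hP : P χ) {b : ℂ} (hb : χ 1 - χ t = b * c) :
    classInner χ om = b + (χ 1 - b / N * om 1) * classInner (fun g => (δ g : ℂ)) om := by
  set d : G → ℂ := fun g => (δ g : ℂ) with hd
  have hdi : IsIrrCharacter G d := isIrrCharacter_hom δ
  have h0 := W.zero (χ - (b / N) • om - (χ 1 - b / N * om 1) • d)
    (cl_sub (cl_sub (isIrr_isClassFunction hχ) (cl_smul _ W.om_cl)) (cl_smul _ (isIrr_isClassFunction hdi)))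
    (W.S_sub _ _ (W.S_sub _ _ (W.S_P _ hχ hP) (W.S_smul _ _ W.S_om)) (W.S_smul _ _ (W.S_P _ hdi hδ)))
    (by
      have : d 1 = 1 := by rw [hd]; simp
      simp only [Pi.sub_apply, Pi.smul_apply, smul_eq_mul, this]
      ring)
    (by
      have h1 : d t = 1 := by rw [hd]; simp [hδt]
      have h2 := W.om_t
      have h3 := W.N0
      simp only [Pi.sub_apply, Pi.smul_apply, smul_eq_mul, h1]
      have h4 : b / N * (om 1 - om t) = b * c := by rw [h2]; field_simp
      linear_combination h4 - hb)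
  rw [classInner_sub_left, classInner_sub_left, classInner_smul_left, classInner_smul_left, W.om_om] at h0
  have h3 := W.N0
  have h5 : b / N * N = b := div_mul_cancel₀ _ h3
  linear_combination h0 + h5

/-- Second step: the constant is zero. -/
theorem inner_lin_eq_zero (W : Wd om P S t c N) {δ δ' : G →* ℂˣ} (hδ : P (fun g => (δ g : ℂ))) (hδt : δ t = 1)
    (hδδ : P (fun g => (δ g : ℂ) * (δ' g : ℂ))) (hδ't : δ' t = 1) (hsum : ∑ g, om g ^ 2 * (δ' g : ℂ) = 0)
    (hnot : ∀ χ, IsIrrCharacter G χ → P χ → χ t ≠ χ 1 → ¬ P (fun g => χ g * (δ' g : ℂ))) :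
    classInner (fun g => (δ g : ℂ)) om = 0 := by
  classical
  have := finite_irr (G := G)
  have := Fintype.ofFinite (IrrCharacter G)
  set d : G → ℂ := fun g => (δ g : ℂ) with hd
  set α : ℂ := classInner d om with hα
  -- the value at the characters
  have key : ∀ χ : IrrCharacter G, P χ → P (fun g => (χ : G → ℂ) g * (δ' g : ℂ)) →
      classInner (χ : G → ℂ) om = (χ : G → ℂ) 1 * α ∧
      classInner (fun g => (χ : G → ℂ) g * (δ' g : ℂ)) om = (χ : G → ℂ) 1 * α := by
    intro χ h1 h2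
    have ht : (χ : G → ℂ) t = (χ : G → ℂ) 1 := by
      by_contra h
      exact hnot χ χ.2 h1 h h2
    constructor
    · have := W.inner_eq hδ hδt χ.2 h1 (b := 0) (by rw [ht]; ring)
      rw [this]
      ring
    · have := W.inner_eq hδ hδt (isIrr_mul_hom χ.2 δ') h2 (b := 0) (by
        show (χ : G → ℂ) 1 * (δ' 1 : ℂ) - (χ : G → ℂ) t * (δ' t : ℂ) = _
        rw [ht, hδ't, map_one]
        ring)
      rw [this]
      simp only [map_one, Units.val_one]
      ring
  -- Parseval
  have hcl : IsClassFunction G (fun g => om g * conj (δ' g : ℂ)) := fun g h => by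
    show om (h * g * h⁻¹) * conj ((δ' (h * g * h⁻¹) : ℂˣ) : ℂ) = om g * conj (δ' g : ℂ)
    have h1 : ((δ' (h * g * h⁻¹) : ℂˣ) : ℂ) = (δ' g : ℂ) := isIrr_isClassFunction (isIrrCharacter_hom δ') g h
    rw [W.om_cl g h, h1]
  have h0 : classInner om (fun g => om g * conj (δ' g : ℂ)) = 0 := by
    rw [classInner_def]
    have : ∑ g, om g * conj (om g * conj (δ' g : ℂ)) = 0 := by
      rw [← hsum]
      refine Finset.sum_congr rfl fun g _ => ?_
      rw [map_mul, Complex.conj_conj, W.om_re]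
      ring
    rw [this, mul_zero]
  rw [classInner_eq_sum W.om_cl hcl] at h0
  have hsw : ∀ χ : G → ℂ, classInner (fun g => om g * conj (δ' g : ℂ)) χ =
      classInner om (fun g => χ g * (δ' g : ℂ)) := by
    intro χ
    rw [classInner_def, classInner_def]
    congr 1
    refine Finset.sum_congr rfl fun g _ => ?_
    rw [map_mul]
    ring
  -- each term is a nonnegative real
  have hterm : ∀ χ : IrrCharacter G, classInner om (χ : G → ℂ) *
      conj (classInner (fun g => om g * conj (δ' g : ℂ)) (χ : G → ℂ)) =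
      ((if P χ ∧ P (fun g => (χ : G → ℂ) g * (δ' g : ℂ)) then Complex.normSq ((χ : G → ℂ) 1 * α) else 0 : ℝ) : ℂ) := by
    intro χ
    rw [hsw]
    split_ifs with h
    · obtain ⟨h1, h2⟩ := key χ h.1 h.2
      have h3 : conj (classInner om (fun g => (χ : G → ℂ) g * (δ' g : ℂ))) = (χ : G → ℂ) 1 * α := by
        rw [classInner_conj_symm, h2]
      rw [← classInner_conj_symm, h1, h3, mul_comm, Complex.mul_conj]
    · by_cases h1 : P χ
      · have h2 : ¬ P (fun g => (χ : G → ℂ) g * (δ' g : ℂ)) := fun h2 => h ⟨h1, h2⟩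
        rw [W.perp om W.om_cl W.S_om _ (isIrr_mul_hom χ.2 δ') h2]
        simp
      · rw [W.perp om W.om_cl W.S_om _ χ.2 h1]
        simp
  rw [Finset.sum_congr rfl fun χ _ => hterm χ, ← Complex.ofReal_sum, Complex.ofReal_eq_zero,
    Finset.sum_eq_zero_iff_of_nonneg] at h0
  · have h1 := h0 ⟨d, isIrrCharacter_hom δ⟩ (Finset.mem_univ _)
    rw [if_pos ⟨hδ, hδδ⟩] at h1
    have h2 : d 1 = 1 := by rw [hd]; simp
    simpa [h2] using Complex.normSq_eq_zero.mp h1
  · intro χ _
    split_ifs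
    · exact Complex.normSq_nonneg _
    · exact le_rfl

/-- Third step: all the multiplicities. -/
theorem inner_om (W : Wd om P S t c N) {δ δ' : G →* ℂˣ} (hδ : P (fun g => (δ g : ℂ))) (hδt : δ t = 1)
    (hδδ : P (fun g => (δ g : ℂ) * (δ' g : ℂ))) (hδ't : δ' t = 1) (hsum : ∑ g, om g ^ 2 * (δ' g : ℂ) = 0)
    (hnot : ∀ χ, IsIrrCharacter G χ → P χ → χ t ≠ χ 1 → ¬ P (fun g => χ g * (δ' g : ℂ))) :
    ∃ m : IrrCharacter G → ℕ, (∀ χ : IrrCharacter G, classInner om (χ : G → ℂ) = m χ) ∧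
      (∀ χ : IrrCharacter G, P χ → (χ : G → ℂ) 1 - (χ : G → ℂ) t = m χ * c) ∧
      (∀ χ : IrrCharacter G, ¬ P χ → m χ = 0) := by
  classical
  have h0 := W.inner_lin_eq_zero hδ hδt hδδ hδ't hsum hnot
  choose b hb using fun χ : IrrCharacter G => W.int χ χ.2
  refine ⟨fun χ => if P χ then b χ else 0, fun χ => ?_, fun χ h => ?_, fun χ h => ?_⟩
  · show _ = (((if P χ then b χ else 0 : ℕ)) : ℂ)
    split_ifs with h
    · rw [← classInner_conj_symm, W.inner_eq hδ hδt χ.2 h (hb χ), h0, mul_zero, add_zero, map_natCast]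
    · rw [W.perp om W.om_cl W.S_om _ χ.2 h, Nat.cast_zero]
  · show _ = (((if P χ then b χ else 0 : ℕ)) : ℂ) * c
    rw [if_pos h, hb χ]
  · exact if_neg h

end Wd

/-! ### The components under a central subgroup -/

section Central

variable [Fintype G]

/-- The result of the decomposition. -/
structure Dec (om : G → ℂ) (P : (G → ℂ) → Prop) (t : G) (c : ℂ) (m : IrrCharacter G → ℕ) : Prop where
  om_cl : IsClassFunction G om
  inner : ∀ χ : IrrCharacter G, classInner om (χ : G → ℂ) = m χ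
  val : ∀ χ : IrrCharacter G, P χ → (χ : G → ℂ) 1 - (χ : G → ℂ) t = m χ * c
  not : ∀ χ : IrrCharacter G, ¬ P χ → m χ = 0
  c0 : c ≠ 0

variable {om : G → ℂ} {P : (G → ℂ) → Prop} {t : G} {c : ℂ} {m : IrrCharacter G → ℕ}

theorem Dec.eq_sum [Fintype (IrrCharacter G)] (D : Dec om P t c m) (g : G) :
    om g = ∑ χ : IrrCharacter G, (m χ : ℂ) * (χ : G → ℂ) g := by
  have h := congrFun (classFunction_eq_sum D.om_cl) g
  rw [h, Finset.sum_apply]
  refine Finset.sum_congr rfl fun χ _ => ?_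
  rw [Pi.smul_apply, smul_eq_mul, D.inner]

/-- A subgroup on which `om` sums to zero has no fixed vectors on the constituents of `om`. -/
theorem Dec.sum_zero (D : Dec om P t c m) {χ : G → ℂ} (hχ : IsIrrCharacter G χ) (hP : P χ) (ht : χ t ≠ χ 1)
    (Y : Subgroup G) (hY : ∑ᶠ y : Y, om (y : G) = 0) : ∑ᶠ y : Y, χ (y : G) = 0 := by
  classical
  have := finite_irr (G := G)
  have := Fintype.ofFinite (IrrCharacter G)
  have : Fintype Y := Fintype.ofFinite _
  have hnat : ∀ ψ : IrrCharacter G, ∃ k : ℕ, ∑ y : Y, (ψ : G → ℂ) (y : G) = k := by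
    intro ψ
    have h1 : IsCharacter Y (fun y : Y => (ψ : G → ℂ) (y : G)) :=
      isCharacter_comp Y.subtype (isIrr_isCharacter ψ.2)
    obtain ⟨k, hk⟩ := classInner_isNat h1 (isCharacter_one (G := Y))
    refine ⟨Nat.card Y * k, ?_⟩
    rw [classInner_def] at hk
    simp only [Pi.one_apply, map_one, mul_one] at hk
    have h2 : (Nat.card Y : ℂ) ≠ 0 := card_ne_zero_complex
    rw [Nat.cast_mul, ← hk, mul_inv_cancel_left₀ h2]
  choose k hk using hnat
  rw [finsum_eq_sum_of_fintype] at hY ⊢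
  have h1 : ∑ ψ : IrrCharacter G, m ψ * k ψ = 0 := by
    have h2 : ∑ y : Y, om (y : G) = ∑ ψ : IrrCharacter G, (m ψ : ℂ) * (k ψ : ℂ) := by
      simp_rw [D.eq_sum]
      rw [Finset.sum_comm]
      refine Finset.sum_congr rfl fun ψ _ => ?_
      rw [← hk ψ, Finset.mul_sum]
    rw [h2] at hY
    exact_mod_cast hY
  rw [Finset.sum_eq_zero_iff] at h1
  have h3 := h1 ⟨χ, hχ⟩ (Finset.mem_univ _)
  have h4 : m ⟨χ, hχ⟩ ≠ 0 := by
    intro h4
    have h5 := D.val ⟨χ, hχ⟩ hP
    rw [h4] at h5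
    apply ht
    have h6 : χ 1 - χ t = 0 := by simpa using h5
    exact (sub_eq_zero.mp h6).symm
  have h7 := hk ⟨χ, hχ⟩
  rcases mul_eq_zero.mp h3 with h8 | h8
  · exact absurd h8 h4
  · rw [h8] at h7
    simpa using h7

omit [Fintype G] in
/-- The central character. -/
theorem exists_central (Z : Subgroup G) (hZ : ∀ z ∈ Z, ∀ g, z * g = g * z) {χ : G → ℂ}
    (hχ : IsIrrCharacter G χ) : ∃ η : Z →* ℂˣ, ∀ (z : Z) (g : G), χ (z * g) = (η z : ℂˣ) * χ g := by
  have := hχ
  obtain ⟨n, ρ, hρ, rfl⟩ := this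
  have h1 : ∀ z : Z, ∃ a : ℂ, ρ (z : G) = a • (1 : Module.End ℂ (Fin n → ℂ)) := fun z =>
    Cfsg.Agent.Characters.Central.exists_smul_of_comm ρ hρ _ fun g => by
      rw [← map_mul, ← map_mul, hZ z z.2]
  choose a ha using h1
  have hne : ρ.character 1 ≠ 0 := isIrr_apply_one_ne_zero hχ
  have hval : ∀ (z : Z) (g : G), ρ.character (z * g) = a z * ρ.character g := fun z g => by
    rw [Representation.character, Representation.character, map_mul, ha, smul_mul_assoc, one_mul, map_smul,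
      smul_eq_mul]
  have h10 : a 1 = 1 := by
    have h := hval 1 1
    rw [Subgroup.coe_one, mul_one] at h
    exact (mul_right_cancel₀ hne (by rw [one_mul]; exact h)).symm
  have h11 : ∀ z z', a (z * z') = a z * a z' := fun z z' => by
    have h := hval (z * z') 1
    rw [Subgroup.coe_mul, mul_assoc, hval, hval, ← mul_assoc] at h
    exact (mul_right_cancel₀ hne h).symm
  let A : Z →* ℂ := { toFun := a, map_one' := h10, map_mul' := h11 }
  exact ⟨A.toHomUnits, fun z g => hval z g⟩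

/-- The component of `om` with a given central character is irreducible. -/
theorem Dec.exists_unique (D : Dec om P t c m) (Z : Subgroup G) (hZ : ∀ z ∈ Z, ∀ g, z * g = g * z)
    (hom : om 1 - om t = (Nat.card Z : ℂ) * c) (hzt : ∀ z ∈ Z, z ≠ 1 → om z = om (z * t)) (ε : Z →* ℂˣ) :
    ∃ χ : IrrCharacter G, P χ ∧ (χ : G → ℂ) t ≠ (χ : G → ℂ) 1 ∧
      (∀ (z : Z) (g : G), (χ : G → ℂ) (z * g) = (ε z : ℂˣ) * (χ : G → ℂ) g) ∧
      (∀ g : G, (χ : G → ℂ) g = (Nat.card Z : ℂ)⁻¹ * ∑ᶠ z : Z, ((ε z)⁻¹ : ℂˣ) * om ((z : G) * g)) ∧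
      ∀ ψ : IrrCharacter G, P ψ → (ψ : G → ℂ) t ≠ (ψ : G → ℂ) 1 →
        (∀ (z : Z) (g : G), (ψ : G → ℂ) (z * g) = (ε z : ℂˣ) * (ψ : G → ℂ) g) → ψ = χ := by
  classical
  have := finite_irr (G := G)
  have := Fintype.ofFinite (IrrCharacter G)
  have : Fintype Z := Fintype.ofFinite _
  have hc0 : (Nat.card Z : ℂ) ≠ 0 := card_ne_zero_complex
  choose η hη using fun χ : IrrCharacter G => exists_central Z hZ χ.2
  have hηu : ∀ (χ : IrrCharacter G) (θ : Z →* ℂˣ),
      (∀ (z : Z) (g : G), (χ : G → ℂ) (z * g) = (θ z : ℂˣ) * (χ : G → ℂ) g) → η χ = θ := by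
    intro χ θ hθ
    ext z
    have h1 := hθ z 1
    rw [hη] at h1
    exact mul_right_cancel₀ (isIrr_apply_one_ne_zero χ.2) h1
  -- orthogonality on `Z`
  have horth : ∀ (χ : IrrCharacter G) (g : G), (Nat.card Z : ℂ)⁻¹ * ∑ z : Z, ((ε z)⁻¹ : ℂˣ) * (χ : G → ℂ) (z * g) =
      if η χ = ε then (χ : G → ℂ) g else 0 := by
    intro χ g
    have h1 : ∀ z : Z, (((ε z)⁻¹ : ℂˣ) : ℂ) * (χ : G → ℂ) (z * g) =
        ((Units.coeHom ℂ).comp (ε⁻¹ * η χ)) z * (χ : G → ℂ) g := by
      intro z
      rw [hη]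
      simp only [MonoidHom.comp_apply, MonoidHom.mul_apply, MonoidHom.inv_apply, Units.coeHom_apply, Units.val_mul]
      ring
    rw [Finset.sum_congr rfl fun z _ => h1 z, ← Finset.sum_mul, sum_hom_units]
    have h2 : (Units.coeHom ℂ).comp (ε⁻¹ * η χ) = 1 ↔ η χ = ε := by
      constructor
      · intro h
        ext z
        have h3 := DFunLike.congr_fun h z
        simp only [MonoidHom.comp_apply, MonoidHom.mul_apply, MonoidHom.inv_apply, Units.coeHom_apply,
          MonoidHom.one_apply] at h3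
        have h4 : (ε z)⁻¹ * η χ z = 1 := Units.ext h3
        rw [inv_mul_eq_one] at h4
        rw [h4]
      · intro h
        ext z
        simp [h]
    by_cases h : η χ = ε
    · rw [if_pos (h2.mpr h), if_pos h, ← Nat.card_eq_fintype_card, inv_mul_cancel_left₀ hc0]
    · rw [if_neg (fun h' => h (h2.mp h')), if_neg h]
      simp
  have hexp : ∀ g : G, (Nat.card Z : ℂ)⁻¹ * ∑ z : Z, ((ε z)⁻¹ : ℂˣ) * om ((z : G) * g) =
      ∑ χ : IrrCharacter G, (m χ : ℂ) * (if η χ = ε then (χ : G → ℂ) g else 0) := by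
    intro g
    simp_rw [← horth, D.eq_sum, Finset.mul_sum]
    rw [Finset.sum_comm]
    refine Finset.sum_congr rfl fun χ _ => Finset.sum_congr rfl fun z _ => ?_
    ring
  -- the sum of the squares is one
  have hsq : ∑ χ : IrrCharacter G, (if η χ = ε then (m χ) ^ 2 else 0) = 1 := by
    have h1 : (Nat.card Z : ℂ)⁻¹ * ∑ z : Z, ((ε z)⁻¹ : ℂˣ) * om ((z : G) * 1) -
        (Nat.card Z : ℂ)⁻¹ * ∑ z : Z, ((ε z)⁻¹ : ℂˣ) * om ((z : G) * t) = c := by
      rw [← mul_sub, ← Finset.sum_sub_distrib, Finset.sum_eq_single (1 : Z)]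
      · rw [Subgroup.coe_one, one_mul, one_mul, map_one, inv_one, Units.val_one, one_mul, one_mul, hom,
          inv_mul_cancel_left₀ hc0]
      · intro z _ hz
        have hz' : (z : G) ≠ 1 := fun h => hz (Subtype.ext h)
        rw [mul_one, hzt z z.2 hz', sub_self]
      · exact fun h => absurd (Finset.mem_univ _) h
    rw [hexp, hexp, ← Finset.sum_sub_distrib] at h1
    have h2 : ∀ χ : IrrCharacter G, (m χ : ℂ) * (if η χ = ε then (χ : G → ℂ) 1 else 0) -
        (m χ : ℂ) * (if η χ = ε then (χ : G → ℂ) t else 0) =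
        ((if η χ = ε then (m χ) ^ 2 else 0 : ℕ) : ℂ) * c := by
      intro χ
      by_cases h : η χ = ε
      · rw [if_pos h, if_pos h, if_pos h]
        by_cases hP : P χ
        · rw [← mul_sub, D.val χ hP]
          push_cast
          ring
        · rw [D.not χ hP]
          simp
      · rw [if_neg h, if_neg h, if_neg h]
        simp
    rw [Finset.sum_congr rfl fun χ _ => h2 χ, ← Finset.sum_mul] at h1
    have h3 := mul_right_cancel₀ D.c0 (h1.trans (one_mul c).symm)
    exact_mod_cast h3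
  obtain ⟨χ, hχm⟩ : ∃ χ : IrrCharacter G, (if η χ = ε then (m χ) ^ 2 else 0) ≠ 0 := by
    by_contra hc
    push Not at hc
    rw [Finset.sum_eq_zero fun χ _ => hc χ] at hsq
    exact zero_ne_one hsq
  have hχε : η χ = ε := by
    by_contra h
    rw [if_neg h] at hχm
    exact hχm rfl
  rw [if_pos hχε] at hχm
  have hadd := Finset.add_sum_erase Finset.univ (fun χ => if η χ = ε then (m χ) ^ 2 else 0) (Finset.mem_univ χ)
  simp only [hsq, if_pos hχε] at hadd
  have hpos : 0 < (m χ) ^ 2 := Nat.pos_of_ne_zero hχm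
  have hm1 : m χ = 1 := by
    have h1 : (m χ) ^ 2 = 1 := by omega
    rcases pow_eq_one_iff.mp h1 with h2 | h2
    · exact h2
    · exact absurd h2 (by norm_num)
  have hrest : ∀ ψ : IrrCharacter G, ψ ≠ χ → η ψ = ε → m ψ = 0 := by
    intro ψ hψ hψε
    have h1 : ∑ χ ∈ Finset.univ.erase χ, (if η χ = ε then (m χ) ^ 2 else 0) = 0 := by omega
    rw [Finset.sum_eq_zero_iff] at h1
    have h2 := h1 ψ (Finset.mem_erase.mpr ⟨hψ, Finset.mem_univ _⟩)
    rw [if_pos hψε] at h2
    exact pow_eq_zero_iff (by norm_num) |>.mp h2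
  have hPχ : P χ := by
    by_contra h
    have := D.not χ h
    omega
  refine ⟨χ, hPχ, ?_, ?_, ?_, ?_⟩
  · intro h
    have h1 := D.val χ hPχ
    rw [h, sub_self, hm1, Nat.cast_one, one_mul] at h1
    exact D.c0 h1.symm
  · rw [← hχε]
    exact hη χ
  · intro g
    rw [finsum_eq_sum_of_fintype, hexp, Finset.sum_eq_single χ]
    · rw [hm1, if_pos hχε, Nat.cast_one, one_mul]
    · intro ψ _ hψ
      by_cases h : η ψ = ε
      · rw [hrest ψ hψ h, Nat.cast_zero, zero_mul]
      · rw [if_neg h, mul_zero]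
    · exact fun h => absurd (Finset.mem_univ _) h
  · intro ψ hPψ hψt hψε
    by_contra hne
    have h1 := hrest ψ hne (hηu ψ ε hψε)
    have h2 := D.val ψ hPψ
    rw [h1, Nat.cast_zero, zero_mul] at h2
    exact hψt (sub_eq_zero.mp h2).symm

end Central

end Cfsg.Agent.H458.CC.AbsWeil
end

-- part: H458/CC/Concrete
section
/-!
# The Weil character of a unitary group: fixed spaces, scalars, linear characters (S4793)
-/

set_option autoImplicit false

open Cfsg
open scoped ComplexConjugate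

namespace Cfsg.Agent.H458.CC.Concrete

open Module Cfsg.Agent.H603.CC Cfsg.Agent.H458.CC.AbsWeil Cfsg.Agent.Characters.Core Cfsg.Agent.Characters.Linear

universe u v

/-! ### Norm one elements of the field -/

section Field

variable {F : Type u} [Field F] [Finite F] {q : ℕ}

/-- a norm one element of order `q + 1` -/
theorem exists_prim (h2 : 2 ≤ q) (hF : Nat.card F = q ^ 2) : ∃ a : Fˣ, IsPrimitiveRoot a (q + 1) := by
  obtain ⟨g, hg⟩ := IsCyclic.exists_generator (α := Fˣ)
  have h4 : orderOf g = Nat.card Fˣ := orderOf_eq_card_of_forall_mem_zpowers hg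
  have h5 : Nat.card Fˣ = (q - 1) * (q + 1) := by
    rw [Nat.card_units, hF]
    obtain ⟨k, rfl⟩ := Nat.exists_eq_add_of_le h2
    have h6 : 2 + k - 1 = k + 1 := by omega
    rw [h6]
    have h7 : (2 + k) ^ 2 = (k + 1) * (2 + k + 1) + 1 := by ring
    omega
  refine ⟨g ^ (q - 1), ?_⟩
  have h6 : orderOf (g ^ (q - 1)) = q + 1 := by
    rw [orderOf_pow' g (by omega), h4, h5, Nat.gcd_eq_right (Dvd.intro _ rfl)]
    exact Nat.mul_div_cancel_left _ (by omega)
  rw [← h6]
  exact IsPrimitiveRoot.orderOf _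

/-- a homomorphism `κ` such that `κ` and `κ²` are nontrivial on the norm one group -/
theorem exists_kappa (h2 : 2 ≤ q) (hF : Nat.card F = q ^ 2) :
    ∃ κ : Fˣ →* ℂˣ, KNT q κ ∧ KNT q (κ * κ) := by
  obtain ⟨a, ha⟩ := exists_prim h2 hF
  have h1 : a ^ 2 ≠ 1 := ha.pow_ne_one_of_pos_of_lt (by norm_num) (by omega)
  obtain ⟨κ, hκ⟩ := CommGroup.exists_apply_ne_one_of_hasEnoughRootsOfUnity Fˣ ℂ h1
  refine ⟨κ, ⟨a, ha.pow_eq_one, fun h => hκ ?_⟩, ⟨a, ha.pow_eq_one, fun h => hκ ?_⟩⟩
  · rw [map_pow, h, one_pow]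
  · rw [map_pow, sq]
    exact h

theorem card_roots (h2 : 2 ≤ q) (hF : Nat.card F = q ^ 2) : Nat.card (rootsOfUnity (q + 1) F) = q + 1 := by
  obtain ⟨a, ha⟩ := exists_prim h2 hF
  have : NeZero (q + 1) := ⟨by omega⟩
  have ha' : IsPrimitiveRoot (a : F) (q + 1) := IsPrimitiveRoot.coe_units_iff.mpr ha
  exact ha'.card_rootsOfUnity

end Field

section Space

variable {F : Type u} {V : Type v} [Field F] [AddCommGroup V] [Module F V] {q : ℕ} {σ : F →+* F}
  {B : V →ₛₗ[σ] V →ₗ[F] F}

/-! ### Fixed spaces -/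

theorem fx_one : fx (1 : UU B) = ⊤ := by
  rw [eq_top_iff]
  intro x _
  exact ac_one x

theorem fx_ne_top {g : UU B} (hg : g ≠ 1) : fx g ≠ ⊤ := by
  intro h
  apply hg
  refine ac_ext fun x => ?_
  have : x ∈ fx g := by rw [h]; trivial
  rw [ac_one]
  exact this

theorem wf_one (hodd : Odd (finrank F V)) : wf q (1 : UU B) = - (q : ℂ) ^ finrank F V := by
  rw [wf, fx_one, finrank_top, hodd.neg_pow]

theorem wf_of_hyper {t : UU B} (hodd : Odd (finrank F V)) (ht : finrank F (fx t) + 1 = finrank F V) :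
    wf q t = (q : ℂ) ^ (finrank F V - 1) := by
  have h1 : finrank F (fx t) = finrank F V - 1 := by omega
  have h2 : Even (finrank F V - 1) := by
    obtain ⟨k, hk⟩ := hodd
    exact ⟨k, by omega⟩
  rw [wf, h1, h2.neg_pow]

theorem wf_of_bot {t : UU B} (ht : fx t = ⊥) : wf q t = 1 := by
  rw [wf, ht, finrank_bot, pow_zero]

/-- the fixed space of a transvection -/
theorem finrank_fx_tv [Finite V] {t : UU B} {e : V} (he0 : e ≠ 0) (ht1 : t ≠ 1) (ht : t ∈ Ref B e)
    (hperp : finrank F (perp B (Submodule.span F {e})) + finrank F (Submodule.span F {e}) = finrank F V) :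
    finrank F (fx t) + 1 = finrank F V := by
  have h1 : perp B (Submodule.span F {e}) ≤ fx t := fun x hx => ht x hx
  have h2 := Submodule.finrank_mono h1
  have h3 := Submodule.finrank_lt (lt_top_iff_ne_top.mpr (fx_ne_top ht1)).ne
  rw [finrank_span_singleton he0] at hperp
  omega

/-- a nontrivial scalar has no fixed vectors -/
theorem fx_scalar {z : UU B} {c : F} (hz : ∀ x, ac B z x = c • x) (h1 : z ≠ 1) : fx z = ⊥ := by
  rw [eq_bot_iff]
  intro x hx
  have hx' : ac B z x = x := hx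
  rw [hz] at hx'
  have hc : c ≠ 1 := by
    rintro rfl
    exact h1 (ac_ext fun x => by rw [hz, one_smul, ac_one])
  have h2 : (c - 1) • x = 0 := by rw [sub_smul, hx', one_smul, sub_self]
  rcases smul_eq_zero.mp h2 with h | h
  · exact absurd (sub_eq_zero.mp h) hc
  · exact h

/-- the product of a nontrivial scalar and a transvection has no fixed vectors -/
theorem fx_scalar_tv {z t : UU B} {c k : F} {e : V} (hz : ∀ x, ac B z x = c • x) (h1 : z ≠ 1)
    (he : B e e = 0) (ht : ∀ x, ac B t x = x + (k * B e x) • e) : fx (z * t) = ⊥ := by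
  rw [eq_bot_iff]
  intro x hx
  have hx' : ac B (z * t) x = x := hx
  rw [ac_mul, hz, ht] at hx'
  have hc : c ≠ 1 := by
    rintro rfl
    exact h1 (ac_ext fun x => by rw [hz, one_smul, ac_one])
  have h2 : (1 - c) • x = (c * (k * B e x)) • e := by
    rw [smul_add, smul_smul] at hx'
    rw [sub_smul, one_smul, sub_eq_iff_eq_add, add_comm]
    exact hx'.symm
  have h3 : B e x = 0 := by
    have h4 := congrArg (B e) h2
    rw [map_smul, map_smul, he, smul_zero, smul_eq_mul] at h4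
    rcases mul_eq_zero.mp h4 with h | h
    · exact absurd (sub_eq_zero.mp h).symm hc
    · exact h
  rw [h3, mul_zero, mul_zero, zero_smul] at h2
  rcases smul_eq_zero.mp h2 with h | h
  · exact absurd (sub_eq_zero.mp h).symm hc
  · exact h

/-! ### Scalars -/

theorem zs_comm {z : UU B} (hz : z ∈ Zs B) (g : UU B) : z * g = g * z := by
  obtain ⟨c, hc⟩ := hz
  refine ac_ext fun x => ?_
  rw [ac_mul, ac_mul, hc, hc, ac_smul]

theorem card_Zs [Finite F] (h : HS q σ B) [Nontrivial V] : Nat.card (Zs B) = q + 1 := by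
  rw [← card_roots h.two_le h.card]
  obtain ⟨x₀, hx₀⟩ := exists_ne (0 : V)
  obtain ⟨y₀, hy₀⟩ : ∃ y, B x₀ y ≠ 0 := by
    by_contra hc
    push Not at hc
    exact hx₀ (h.ext hc)
  -- the scalar of a norm one element
  have key : ∀ c : rootsOfUnity (q + 1) F, ∀ x y : V,
      B (LinearEquiv.smulOfUnit (c : Fˣ) x) (LinearEquiv.smulOfUnit (c : Fˣ) y) = B x y := by
    intro c x y
    have h1 : ((c : Fˣ) : F) ^ (q + 1) = 1 := by
      have := c.2
      rw [mem_rootsOfUnity'] at this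
      exact this
    have h2 : ∀ x : V, LinearEquiv.smulOfUnit (c : Fˣ) x = ((c : Fˣ) : F) • x := fun x => rfl
    rw [h2, h2, map_smul, LinearMap.map_smulₛₗ, LinearMap.smul_apply, smul_smul, h.sig, ← pow_succ', h1,
      one_smul]
  refine (Nat.card_congr (Equiv.ofBijective
    (fun c : rootsOfUnity (q + 1) F => (⟨mkU (LinearEquiv.smulOfUnit (c : Fˣ)) (key c),
      ⟨((c : Fˣ) : F), fun x => rfl⟩⟩ : Zs B)) ⟨?_, ?_⟩)).symm
  · intro c c' hcc
    have h1 : ac B (mkU (LinearEquiv.smulOfUnit (c : Fˣ)) (key c)) x₀ =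
        ac B (mkU (LinearEquiv.smulOfUnit (c' : Fˣ)) (key c')) x₀ :=
      congrArg (fun g : UU B => ac B g x₀) (congrArg Subtype.val hcc)
    have h2 : ((c : Fˣ) : F) • x₀ = ((c' : Fˣ) : F) • x₀ := h1
    exact Subtype.ext (Units.ext (smul_left_injective F hx₀ h2))
  · rintro ⟨z, a, ha⟩
    have h1 : a ^ (q + 1) = 1 := by
      have h2 := form_ac z x₀ y₀
      rw [ha, ha, map_smul, LinearMap.map_smulₛₗ, LinearMap.smul_apply, smul_smul, h.sig, ← pow_succ',
        smul_eq_mul] at h2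
      exact mul_right_cancel₀ hy₀ (by rw [h2, one_mul])
    have ha0 : a ≠ 0 := by
      rintro rfl
      rw [zero_pow (by omega)] at h1
      exact zero_ne_one h1
    refine ⟨⟨Units.mk0 a ha0, ?_⟩, ?_⟩
    · rw [mem_rootsOfUnity']
      exact h1
    · refine Subtype.ext (ac_ext fun x => ?_)
      rw [ha]
      rfl

/-! ### Linear characters -/

/-- A linear character of the unitary group. -/
noncomputable def dh (B : V →ₛₗ[σ] V →ₗ[F] F) (κ : Fˣ →* ℂˣ) : UU B →* ℂˣ := κ.comp dt

theorem dh_apply (κ : Fˣ →* ℂˣ) (g : UU B) : ((dh B κ g : ℂˣ) : ℂ) = dl κ g := rfl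

theorem noRef_dl [Finite F] [Finite V] {κ : Fˣ →* ℂˣ} (hκ : KNT q κ)
    (hrf : ∀ {f : V}, B f f = 1 → ∀ {c : F}, c ^ (q + 1) = 1 → ∃ ρ ∈ Ref B f, ((dt ρ : Fˣ) : F) = c) :
    NoRef (dl κ : UU B → ℂ) := by
  classical
  intro f hf
  obtain ⟨a, ha, hκa⟩ := hκ
  have : Fintype (Ref B f) := Fintype.ofFinite _
  have ha' : ((a : Fˣ) : F) ^ (q + 1) = 1 := by
    rw [← Units.val_pow_eq_pow_val, ha, Units.val_one]
  obtain ⟨ρ, hρ, hdρ⟩ := hrf hf ha'
  rw [finsum_eq_sum_of_fintype]
  let φ : Ref B f →* ℂ := ((Units.coeHom ℂ).comp (dh B κ)).comp (Ref B f).subtype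
  have h1 : φ ≠ 1 := by
    intro h
    apply hκa
    have h2 := DFunLike.congr_fun h ⟨ρ, hρ⟩
    have h3 : dt ρ = a := Units.ext hdρ
    have h4 : φ ⟨ρ, hρ⟩ = ((κ a : ℂˣ) : ℂ) := by
      show ((κ (dt ρ) : ℂˣ) : ℂ) = _
      rw [h3]
    rw [h4] at h2
    exact Units.ext h2
  exact sum_hom_units_eq_zero φ h1

end Space

end Cfsg.Agent.H458.CC.Concrete
end

-- part: H458/CC/Main2Core
section
/-!
# MAIN2 of S4793: the Weil characters of the unitary group, from the other results (as hypotheses)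
-/

set_option autoImplicit false
set_option linter.unusedSectionVars false

open Cfsg
open scoped ComplexConjugate

namespace Cfsg.Agent.H458.CC.Main2Core

open Module Cfsg.Agent.H603.CC Cfsg.Agent.H458.CC.AbsWeil Cfsg.Agent.H458.CC.Concrete
open Cfsg.Agent.Characters.Core Cfsg.Agent.Characters.Linear

universe u v

variable {F : Type u} {V : Type v} [Field F] [AddCommGroup V] [Module F V] {σ : F →+* F}

/-- The results used in the proof. -/
structure Inp (q : ℕ) (B : V →ₛₗ[σ] V →ₗ[F] F) : Prop where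
  ref : ∀ {f : V}, B f f = 1 → ∀ {c : F}, c ^ (q + 1) = 1 → ∃ ρ ∈ Ref B f, ((dt ρ : Fˣ) : F) = c
  tv : ∀ {e : V}, e ≠ 0 → B e e = 0 → ∀ {t : UU B}, t ∈ Ref B e →
    ∃ k : F, (∀ x, ac B t x = x + (k * B e x) • e) ∧ dt t = 1
  finrank_perp : ∀ W : Submodule F V, finrank F (perp B W) + finrank F W = finrank F V
  isConj_tv : ∀ {s t : UU B}, IsTv s → IsTv t → IsConj s t
  exists_isTv : ∃ t : UU B, IsTv t
  star_wf : Star (B := B) (wf q)
  wf_class : IsClassFunction (UU B) (wf q)
  star_of_noRef : ∀ {χ : UU B → ℂ}, IsCharacter (UU B) χ → NoRef χ → Star χ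
  inner_eq_zero : ∀ [Fintype (UU B)] {Δ χ : UU B → ℂ}, IsClassFunction (UU B) Δ → Star Δ →
    IsIrrCharacter (UU B) χ → ¬ NoRef χ → classInner Δ χ = 0
  wsum : ∀ {Δ : UU B → ℂ}, Star Δ → (∀ E, IsTS B E → ∀ g ∈ FixS B (perp B E), Δ g = 0) →
    ∀ Θ : Submodule F V → ℂ, ∑ᶠ g : UU B, Δ g * Θ (fx g) = 0
  sum_sq : ∑ᶠ g : UU B, (wf q g) ^ 2 = (q + 1) * Nat.card (UU B)
  sum_sq_dl : ∀ {κ : Fˣ →* ℂˣ}, KNT q κ → ∑ᶠ g : UU B, (wf q g) ^ 2 * dl κ g = 0
  zero_on : ∀ {Δ : UU B → ℂ}, IsClassFunction (UU B) Δ → Star Δ → Δ 1 = 0 → (∀ t, IsTv t → Δ t = 0) →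
    ∀ {E : Submodule F V}, IsTS B E → ∀ {g : UU B}, g ∈ FixS B (perp B E) → Δ g = 0
  not_noRef_mul : ∀ {χ : UU B → ℂ}, IsIrrCharacter (UU B) χ → NoRef χ → ∀ {t : UU B}, IsTv t → χ t ≠ χ 1 →
    ∀ {κ : Fˣ →* ℂˣ}, KNT q κ → ¬ NoRef (fun g : UU B => χ g * dl κ g)
  integrality : ∀ {χ : UU B → ℂ}, IsCharacter (UU B) χ → ∀ {t : UU B}, IsTv t →
    ∃ b : ℕ, χ 1 - χ t = b * (q : ℂ) ^ (finrank F V - 1)

variable {q : ℕ} {B : V →ₛₗ[σ] V →ₗ[F] F} [Finite F] [Finite V]

theorem star_sub {a b : UU B → ℂ} (ha : Star a) (hb : Star b) : Star (a - b) := by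
  intro f hf g
  have h : ∀ ρ : Ref B f, (a - b) ((ρ : UU B) * g) = a ((ρ : UU B) * g) - b ((ρ : UU B) * g) := fun _ => rfl
  rw [finsum_congr h, finsum_sub_distrib (Set.toFinite _) (Set.toFinite _), ha f hf g, hb f hf g, sub_zero]

theorem star_smul (c : ℂ) {a : UU B → ℂ} (ha : Star a) : Star (c • a) := by
  intro f hf g
  have h : ∀ ρ : Ref B f, (c • a) ((ρ : UU B) * g) = c • a ((ρ : UU B) * g) := fun _ => rfl
  rw [finsum_congr h, ← smul_finsum, ha f hf g, smul_zero]

theorem conj_wf (g : UU B) : conj (wf q g) = wf q g := by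
  rw [wf, map_pow, map_neg, Complex.conj_natCast]

theorem cl_apply {Δ : UU B → ℂ} (hcl : IsClassFunction (UU B) Δ) {s t : UU B} (h : IsConj s t) : Δ s = Δ t := by
  obtain ⟨c, hc⟩ := isConj_iff.mp h
  rw [← hc, hcl s c]

/-- The decomposition of the Weil character. -/
theorem decomp (h : HS q σ B) (hodd : Odd (finrank F V)) (hn : 3 ≤ finrank F V) (I : Inp q B) [Fintype (UU B)]
    {t : UU B} (ht : IsTv t) :
    ∃ m : IrrCharacter (UU B) → ℕ,
      Dec (fun g : UU B => - wf q g) (fun χ : UU B → ℂ => NoRef χ) t ((q : ℂ) ^ (finrank F V - 1)) m := by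
  have hq0 : (q : ℂ) ≠ 0 := by
    have := h.two_le
    exact_mod_cast (by omega : q ≠ 0)
  have hN0 : (q : ℂ) + 1 ≠ 0 := by
    exact_mod_cast (by omega : q + 1 ≠ 0)
  obtain ⟨e, he0, hee, hte⟩ := ht.2
  have hdtt : dt t = 1 := by
    obtain ⟨k, -, h2⟩ := I.tv he0 hee hte
    exact h2
  have hwt : wf q t = (q : ℂ) ^ (finrank F V - 1) :=
    wf_of_hyper hodd (finrank_fx_tv he0 ht.1 hte (I.finrank_perp _))
  have hcl : IsClassFunction (UU B) (fun g : UU B => - wf q g) := fun g x => by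
    show - wf q (x * g * x⁻¹) = - wf q g
    rw [I.wf_class g x]
  have hstar : Star (fun g : UU B => - wf q g) := by
    have h1 := star_smul (-1) I.star_wf
    have h2 : (-1 : ℂ) • (wf q : UU B → ℂ) = fun g : UU B => - wf q g := by
      ext g
      rw [Pi.smul_apply, smul_eq_mul, neg_one_mul]
    rwa [h2] at h1
  have W : Wd (fun g : UU B => - wf q g) (fun χ : UU B → ℂ => NoRef χ) (fun χ : UU B → ℂ => Star χ) t
      ((q : ℂ) ^ (finrank F V - 1)) ((q : ℂ) + 1) :=
    { om_cl := hcl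
      om_re := fun g => by rw [map_neg, conj_wf]
      S_om := hstar
      S_P := fun χ hχ hP => I.star_of_noRef (isIrr_isCharacter hχ) hP
      S_sub := fun a b ha hb => star_sub ha hb
      S_smul := fun c a ha => star_smul c ha
      perp := fun Δ h1 h2 χ h3 h4 => I.inner_eq_zero h1 h2 h3 h4
      zero := by
        intro Δ h1 h2 h3 h4
        have h5 : ∀ s, IsTv s → Δ s = 0 := fun s hs => by
          rw [cl_apply h1 (I.isConj_tv hs ht), h4]
        have h6 := I.wsum h2 (fun E hE g hg => I.zero_on h1 h2 h3 h5 hE hg)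
          (fun W => - (-(q : ℂ)) ^ finrank F W)
        rw [finsum_eq_sum_of_fintype] at h6
        have h7 : ∑ g : UU B, Δ g * conj (- wf q g) = 0 := by
          rw [← h6]
          refine Finset.sum_congr rfl fun g _ => ?_
          rw [map_neg, conj_wf]
          rfl
        rw [classInner_def, h7, mul_zero]
      om_om := by
        have h6 := I.sum_sq
        rw [finsum_eq_sum_of_fintype] at h6
        have h7 : ∑ g : UU B, (- wf q g) * conj (- wf q g) = (q + 1) * Nat.card (UU B) := by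
          rw [← h6]
          refine Finset.sum_congr rfl fun g _ => ?_
          rw [map_neg, conj_wf]
          ring
        have hc : (Nat.card (UU B) : ℂ) ≠ 0 := card_ne_zero_complex
        rw [classInner_def, h7]
        field_simp
      om_t := by
        show - wf q (1 : UU B) - - wf q t = _
        rw [wf_one hodd, hwt]
        obtain ⟨k, hk⟩ : ∃ k, finrank F V = k + 1 := ⟨finrank F V - 1, by omega⟩
        rw [hk, Nat.add_sub_cancel, pow_succ]
        ring
      c0 := pow_ne_zero _ hq0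
      N0 := hN0
      int := fun χ hχ => I.integrality (isIrr_isCharacter hχ) ht }
  obtain ⟨κ, hκ1, hκ2⟩ := exists_kappa h.two_le h.card
  have hd1 : ∀ κ : Fˣ →* ℂˣ, dh B κ t = 1 := fun κ => by
    show κ (dt t) = 1
    rw [hdtt, map_one]
  obtain ⟨m, h1, h2, h3⟩ := W.inner_om (δ := dh B κ) (δ' := dh B κ) (noRef_dl hκ1 I.ref) (hd1 κ)
    (by
      have h1 : NoRef (dl (κ * κ) : UU B → ℂ) := noRef_dl hκ2 I.ref
      have h2 : (dl (κ * κ) : UU B → ℂ) = fun g => ((dh B κ g : ℂˣ) : ℂ) * ((dh B κ g : ℂˣ) : ℂ) := by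
        ext g
        rw [dh_apply, dl, dl, MonoidHom.mul_apply, Units.val_mul]
      rwa [h2] at h1) (hd1 κ)
    (by
      have h6 := I.sum_sq_dl hκ1
      rw [finsum_eq_sum_of_fintype] at h6
      rw [← h6]
      refine Finset.sum_congr rfl fun g _ => ?_
      rw [dh_apply, neg_sq])
    (fun χ hχ hP hne => I.not_noRef_mul hχ hP ht hne hκ1)
  exact ⟨m, { om_cl := hcl, inner := h1, val := h2, not := h3, c0 := pow_ne_zero _ hq0 }⟩

theorem exists_unique_weil (h : HS q σ B) (hodd : Odd (finrank F V)) (hn : 3 ≤ finrank F V) (I : Inp q B)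
    (ε : Zs B →* ℂˣ) :
    ∃ χ : IrrCharacter (UU B), NoRef (χ : UU B → ℂ) ∧ (∀ t : UU B, IsTv t → (χ : UU B → ℂ) t ≠ (χ : UU B → ℂ) 1) ∧
      (∀ (z : Zs B) (g : UU B), (χ : UU B → ℂ) (z * g) = (ε z : ℂˣ) * (χ : UU B → ℂ) g) ∧
      (∀ g : UU B, (χ : UU B → ℂ) g = ((q : ℂ) + 1)⁻¹ * ∑ᶠ z : Zs B, ((ε z)⁻¹ : ℂˣ) * (- wf q ((z : UU B) * g))) ∧
      ∀ ψ : IrrCharacter (UU B), NoRef (ψ : UU B → ℂ) →
        (∀ t : UU B, IsTv t → (ψ : UU B → ℂ) t ≠ (ψ : UU B → ℂ) 1) →
        (∀ (z : Zs B) (g : UU B), (ψ : UU B → ℂ) (z * g) = (ε z : ℂˣ) * (ψ : UU B → ℂ) g) → ψ = χ := by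
  have := Fintype.ofFinite (UU B)
  have : Nontrivial V := nontrivial_of_finrank_pos (R := F) (by omega)
  obtain ⟨t, ht⟩ := I.exists_isTv
  obtain ⟨m, D⟩ := decomp h hodd hn I ht
  have hcard : (Nat.card (Zs B) : ℂ) = (q : ℂ) + 1 := by
    rw [card_Zs h]
    push_cast
    rfl
  obtain ⟨e, he0, hee, hte⟩ := ht.2
  have hwt : wf q t = (q : ℂ) ^ (finrank F V - 1) :=
    wf_of_hyper hodd (finrank_fx_tv he0 ht.1 hte (I.finrank_perp _))
  obtain ⟨χ, h1, h2, h3, h4, h5⟩ := D.exists_unique (Zs B) (fun z hz g => zs_comm hz g)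
    (by
      rw [hcard, wf_one hodd, hwt]
      obtain ⟨k, hk⟩ : ∃ k, finrank F V = k + 1 := ⟨finrank F V - 1, by omega⟩
      rw [hk, Nat.add_sub_cancel, pow_succ]
      ring)
    (by
      intro z hz hz1
      obtain ⟨c, hc⟩ := hz
      obtain ⟨k, hk, -⟩ := I.tv he0 hee hte
      rw [wf_of_bot (fx_scalar hc hz1), wf_of_bot (fx_scalar_tv hc hz1 hee hk)]) ε
  refine ⟨χ, h1, fun s hs => ?_, h3, fun g => ?_, fun ψ hψ1 hψ2 hψ3 => h5 ψ hψ1 (hψ2 t ht) hψ3⟩
  · rw [cl_apply (isIrr_isClassFunction χ.2) (I.isConj_tv hs ht)]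
    exact h2
  · rw [← hcard]
    exact h4 g

theorem weil_sum_zero (h : HS q σ B) (hodd : Odd (finrank F V)) (hn : 3 ≤ finrank F V) (I : Inp q B)
    {χ : UU B → ℂ} (hχ : IsIrrCharacter (UU B) χ) (hr : NoRef χ)
    (ht : ∀ t : UU B, IsTv t → χ t ≠ χ 1) (Y : Subgroup (UU B)) (hY : ∑ᶠ y : Y, wf q (y : UU B) = 0) :
    ∑ᶠ y : Y, χ (y : UU B) = 0 := by
  have := Fintype.ofFinite (UU B)
  obtain ⟨t, htv⟩ := I.exists_isTv
  obtain ⟨m, D⟩ := decomp h hodd hn I htv
  refine D.sum_zero hχ hr (ht t htv) Y ?_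
  rw [finsum_neg_distrib, hY, neg_zero]

end Cfsg.Agent.H458.CC.Main2Core
end

-- part: H603/CC/Inst
section
/-!
# S4793: instantiation of the parts
-/

set_option autoImplicit false
set_option linter.unusedSectionVars false

open Cfsg
open scoped ComplexConjugate

namespace Cfsg.Agent.H603.CC

open Module

universe u v

section

variable {F : Type u} {V : Type v} [Field F] [AddCommGroup V] [Module F V] {q : ℕ} {σ : F →+* F}
  {B : V →ₛₗ[σ] V →ₗ[F] F} [Finite F] [Finite V]

theorem part_one (h : HS q σ B) {m : ℕ} (hn : finrank F V = 2 * m + 1) (hm : 1 ≤ m)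
    (hq : ¬ (m = 1 ∧ q = 2)) {χ : UU B → ℂ} (hχ : IsIrrCharacter (UU B) χ)
    (hz : ∀ z ∈ Zs B, ∀ g, χ (z * g) = χ g) (hr : ¬ NoRef χ) :
    ∃ x : UU B, ∑ᶠ g : Subgroup.centralizer {x}, χ (g : UU B) ≠ 0 :=
  Cfsg.Agent.H466.CCPart.part_one_of h hm hχ hz hr (witt h) (perp_perp h)
    (fun _ hf _ hN _ hg hgf => Cfsg.Agent.H269.CC.gen_tv_fix h (by omega) hf hN hg hgf)
    (fun _ hE _ he _ he' => Cfsg.Agent.H161.CC.exists_zz h hE he he')
    (by
      obtain ⟨ψ, h1, h2⟩ := Cfsg.Agent.H174.CC.exists_psi F q σ h.two_le h.card h.sig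
      exact ⟨ψ, h1, fun E hE => h2 V B h E hE⟩)
    (fun _ C C' hC hC' hk =>
      Cfsg.Agent.H118.CC.exists_isometry_of_rank h.two_le h.card h.sig C C' hC hC' rfl hk)
    (Cfsg.Agent.H305.CC.exists_torus h hn hm hq)
    (fun _ hf => Cfsg.Agent.H775.CC.exists_regu h hn hm hf)

theorem exists_Y (h : HS q σ B) (hodd : Odd (finrank F V)) (x : UU B) :
    ∃ Y : Subgroup (UU B), (∀ y ∈ Y, y * x = x * y) ∧ ∑ᶠ y : Y, wf q (y : UU B) = 0 :=
  Cfsg.Agent.H984.CC.exists_Y_of_locSum h hodd x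
    (fun A _ _ _ _ _ s hs hsF ho => Cfsg.Agent.H128.CCLoc.loc_sum h.two_le h.card s hs hsF ho)

theorem gen_tv (h : HS q σ B) (h32 : ¬ (finrank F V = 3 ∧ q = 2)) {N : Subgroup (UU B)}
    (hN : ∀ t : UU B, IsTv t → t ∈ N) {g : UU B} (hg : dt g = 1) : g ∈ N :=
  Cfsg.Agent.H269.CC.gen_tv h h32 hN hg

/-- the inputs of `Main2Core` -/
theorem inp (h : HS q σ B) (hodd : Odd (finrank F V)) (hn : 3 ≤ finrank F V) :
    Cfsg.Agent.H458.CC.Main2Core.Inp q B where
  ref := fun {f} hf {c} hc => by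
    obtain ⟨ρ, hρ, hx⟩ := exists_rf h hf hc
    refine ⟨ρ, hρ, ?_⟩
    rw [dt_of_ac hx, hf, mul_one, add_sub_cancel]
  tv := fun {e} he0 he {t} ht => by
    obtain ⟨k, _, h1, h2⟩ := of_mem_Ref_tv h he0 he ht
    exact ⟨k, h1, h2⟩
  finrank_perp := finrank_perp h
  isConj_tv := isConj_tv h
  exists_isTv := exists_isTv h (by omega)
  star_wf := Cfsg.Agent.H212.CC.star_wf h
  wf_class := Cfsg.Agent.H212.CC.wf_class
  star_of_noRef := Cfsg.Agent.H212.CC.star_of_noRef
  inner_eq_zero := Cfsg.Agent.H212.CC.inner_eq_zero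
  wsum := Cfsg.Agent.H688.CC.wsum h
  sum_sq := Cfsg.Agent.H688.CC.sum_sq h (by omega)
  sum_sq_dl := Cfsg.Agent.H688.CC.sum_sq_dl h hn
  zero_on := Cfsg.Agent.H910.CC.zero_on h hodd
  not_noRef_mul := Cfsg.Agent.H910.CC.not_noRef_mul h hodd
  integrality := Cfsg.Agent.H486.CCInteg.integrality h hn

theorem exists_unique_weil (h : HS q σ B) (hodd : Odd (finrank F V)) (hn : 3 ≤ finrank F V)
    (ε : Zs B →* ℂˣ) :
    ∃ χ : IrrCharacter (UU B), NoRef (χ : UU B → ℂ) ∧ (∀ t : UU B, IsTv t → (χ : UU B → ℂ) t ≠ (χ : UU B → ℂ) 1) ∧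
      (∀ (z : Zs B) (g : UU B), (χ : UU B → ℂ) (z * g) = (ε z : ℂˣ) * (χ : UU B → ℂ) g) ∧
      (∀ g : UU B, (χ : UU B → ℂ) g = ((q : ℂ) + 1)⁻¹ * ∑ᶠ z : Zs B, ((ε z)⁻¹ : ℂˣ) * (- wf q ((z : UU B) * g))) ∧
      ∀ ψ : IrrCharacter (UU B), NoRef (ψ : UU B → ℂ) →
        (∀ t : UU B, IsTv t → (ψ : UU B → ℂ) t ≠ (ψ : UU B → ℂ) 1) →
        (∀ (z : Zs B) (g : UU B), (ψ : UU B → ℂ) (z * g) = (ε z : ℂˣ) * (ψ : UU B → ℂ) g) → ψ = χ :=
  Cfsg.Agent.H458.CC.Main2Core.exists_unique_weil h hodd hn (inp h hodd hn) ε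

theorem weil_sum_zero (h : HS q σ B) (hodd : Odd (finrank F V)) (hn : 3 ≤ finrank F V)
    {χ : UU B → ℂ} (hχ : IsIrrCharacter (UU B) χ) (hr : NoRef χ)
    (ht : ∀ t : UU B, IsTv t → χ t ≠ χ 1) (Y : Subgroup (UU B)) (hY : ∑ᶠ y : Y, wf q (y : UU B) = 0) :
    ∑ᶠ y : Y, χ (y : UU B) = 0 :=
  Cfsg.Agent.H458.CC.Main2Core.weil_sum_zero h hodd hn (inp h hodd hn) hχ hr ht Y hY

theorem noRef_of_degree (h : HS q σ B) (hodd : Odd (finrank F V)) (hn : 3 ≤ finrank F V)
    (hcop : Nat.Coprime (finrank F V) (q + 1)) {χ : UU B → ℂ} (hχ : IsIrrCharacter (UU B) χ)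
    (hz : ∀ z ∈ Zs B, ∀ g, χ (z * g) = χ g)
    (hdeg : charDegree χ = (q ^ finrank F V - q) / (q + 1)) : NoRef χ :=
  Cfsg.Agent.H183.CC.noRef_of_degree_of_weil h hodd hn
    (fun _ ε => exists_unique_weil h hodd hn ε) hcop hχ hz hdeg

end

end Cfsg.Agent.H603.CC
end
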