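import Cfsg.Agent.H603.CC.Inst
import Cfsg.Agent.H91.U.Std
import Cfsg.Agent.Blocks.Deflate
import Cfsg.Agent.H183.CC.Deg
import Cfsg.Agent.ClassicalGeometry.UnitAutBasic
set_option linter.all false

/-!
# S4793: the final assembly
-/

set_option autoImplicit false
set_option linter.unusedSectionVars false

open Cfsg
open scoped ComplexConjugate

namespace Cfsg.Agent.H603.CC

open Module Cfsg.Agent.Characters.Core Cfsg.Agent.H625.SylConst Cfsg.Agent.OddOrderCharacters.IndRes

universe u v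

section Conj

variable {G : Type u} [Group G] [Fintype G]

/-- The inner product with the conjugation character. -/
theorem conj_inner_eq_zero_iff {χ : G → ℂ} (hχ : IsCharacter G χ) :
    classInner χ (fun g : G => (Nat.card ↥(Subgroup.centralizer ({g} : Set G)) : ℂ)) = 0 ↔
      ∀ x : G, ¬ Fix (Subgroup.centralizer ({x} : Set G)) χ := by
  classical
  have h1 : ∑ g : G, χ g * conj (Nat.card ↥(Subgroup.centralizer ({g} : Set G)) : ℂ) =
      ∑ x : G, ∑ g : Subgroup.centralizer ({x} : Set G), χ (g : G) := by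
    have h2 : ∀ g : G, χ g * conj (Nat.card ↥(Subgroup.centralizer ({g} : Set G)) : ℂ) =
        ∑ x : G, if x * g = g * x then χ g else 0 := by
      intro g
      rw [Complex.conj_natCast, ← Finset.sum_filter, Finset.sum_const, nsmul_eq_mul, mul_comm]
      congr 2
      rw [← Fintype.card_subtype, ← Nat.card_eq_fintype_card]
      refine Nat.card_congr (Equiv.subtypeEquivRight fun x => ?_)
      rw [Subgroup.mem_centralizer_singleton_iff]
    have h3 : ∀ x : G, ∑ g : Subgroup.centralizer ({x} : Set G), χ (g : G) =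
        ∑ g : G, if x * g = g * x then χ g else 0 := by
      intro x
      rw [← Finset.sum_filter]
      symm
      refine Finset.sum_bij' (fun g hg => (⟨g, ?_⟩ : Subgroup.centralizer ({x} : Set G)))
        (fun g _ => (g : G)) ?_ ?_ ?_ ?_ ?_
      · rw [Subgroup.mem_centralizer_singleton_iff]
        exact (Finset.mem_filter.1 hg).2.symm
      · intro g hg
        exact Finset.mem_univ _
      · intro g _
        rw [Finset.mem_filter]
        exact ⟨Finset.mem_univ _, (Subgroup.mem_centralizer_singleton_iff.1 g.2).symm⟩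
      · intro g hg
        rfl
      · intro g _
        rfl
      · intro g hg
        rfl
    rw [Finset.sum_congr rfl fun g _ => h2 g, Finset.sum_comm]
    exact Finset.sum_congr rfl fun x _ => (h3 x).symm
  have hm : ∀ x : G, ∃ m : ℕ, ∑ g : Subgroup.centralizer ({x} : Set G), χ (g : G) = m :=
    fun x => exists_nat _ hχ
  choose m hm using hm
  rw [classInner_def, h1, Finset.sum_congr rfl fun x _ => hm x, ← Nat.cast_sum, mul_eq_zero]
  constructor
  · rintro (h | h)
    · exact absurd h (inv_ne_zero card_ne_zero_complex)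
    · intro x
      have h2 : ∑ x : G, m x = 0 := by exact_mod_cast h
      have h3 := (Finset.sum_eq_zero_iff.1 h2) x (Finset.mem_univ _)
      rw [fix_iff, hm x, h3]
      simp
  · intro h
    right
    have h2 : ∀ x, m x = 0 := by
      intro x
      have h3 := h x
      rw [fix_iff, hm x] at h3
      simpa using h3
    simp [h2]

end Conj

section Comp

variable {G : Type u} [Group G] [Finite G] {H : Type v} [Group H]

/-- the converse of `fix_comp` -/
theorem fix_of_comp (f : G →* H) (P : Subgroup G) {χ : H → ℂ} (hχ : IsCharacter H χ) (h : Fix P (χ ∘ f)) :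
    Fix (P.map f) χ := by
  have : Finite (P.map f) := Finite.of_surjective (fun x : P => (⟨f x, Subgroup.mem_map_of_mem f x.2⟩ : P.map f))
    (by rintro ⟨_, x, hx, rfl⟩; exact ⟨⟨x, hx⟩, rfl⟩)
  obtain ⟨n, ρ, rfl⟩ := hχ
  let τ : Representation ℂ G (Fin n → ℂ) := ρ.comp f
  have h1 : ρ.character ∘ f = τ.character := rfl
  rw [h1, fix_iff_exists] at h
  rw [fix_iff_exists]
  obtain ⟨v, hv, hv1⟩ := h
  refine ⟨v, hv, ?_⟩
  rintro _ ⟨x, hx, rfl⟩
  exact hv1 x hx

end Comp

section Main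

variable {F : Type u} {V : Type v} [Field F] [AddCommGroup V] [Module F V] {q : ℕ} {σ : F →+* F}
  {B : V →ₛₗ[σ] V →ₗ[F] F} [Finite F] [Finite V]

theorem fix_iff_finsum {G : Type u} [Group G] (P : Subgroup G) (χ : G → ℂ) :
    Fix P χ ↔ ∑ᶠ z : P, χ (z : G) ≠ 0 := Iff.rfl

/-- scalars have norm one -/
theorem scalar_pow (h : HS q σ B) (hn : 1 ≤ finrank F V) {g : UU B} {c : F} (hc : ∀ x, ac B g x = c • x) :
    c ^ (q + 1) = 1 := by
  obtain ⟨x, hx⟩ : ∃ x : V, x ≠ 0 := by
    have : Nontrivial V := Module.nontrivial_of_finrank_pos (R := F) (by omega)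
    exact exists_ne 0
  obtain ⟨y, hy⟩ : ∃ y, B x y ≠ 0 := by
    by_contra hcon
    push Not at hcon
    exact hx (h.ext hcon)
  have h1 := form_ac g x y
  rw [hc, hc, form_smul_left, form_smul_right] at h1
  have h2 : (c ^ (q + 1) - 1) * B x y = 0 := by
    rw [pow_succ, ← h.sig]
    linear_combination h1
  rcases mul_eq_zero.mp h2 with h3 | h3
  · exact sub_eq_zero.mp h3
  · exact absurd h3 hy

/-- the determinant of a scalar -/
theorem dt_scalar {g : UU B} {c : F} (hc : ∀ x, ac B g x = c • x) :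
    ((dt g : Fˣ) : F) = c ^ finrank F V := by
  rw [dt_def, LinearEquiv.coe_det]
  have h1 : ((g : V ≃ₗ[F] V) : V →ₗ[F] V) = c • LinearMap.id := by
    ext x
    exact hc x
  rw [h1, LinearMap.det_smul, LinearMap.det_id, mul_one]

theorem exists_scalar (h : HS q σ B) {c : F} (hc : c ^ (q + 1) = 1) : ∃ g : UU B, ∀ x, ac B g x = c • x := by
  obtain ⟨g, hg⟩ := exists_ofLinear h (c • LinearMap.id) (by
    intro x y
    simp only [LinearMap.smul_apply, LinearMap.id_apply, form_smul_left, form_smul_right]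
    have := h.norm_one hc
    linear_combination (B x y) * this)
  exact ⟨g, fun x => by rw [hg]; rfl⟩

/-- fixed space of a nontrivial scalar times ... -/
theorem wf_scalar (h : HS q σ B) {g : UU B} {c : F} (hc : ∀ x, ac B g x = c • x) (hc1 : c ≠ 1) :
    wf q g = 1 := by
  have h1 : fx g = ⊥ := by
    rw [Submodule.eq_bot_iff]
    intro x hx
    have h2 : ac B g x = x := hx
    rw [hc] at h2
    have h3 : (c - 1) • x = 0 := by rw [sub_smul, one_smul, h2, sub_self]
    rcases smul_eq_zero.mp h3 with h4 | h4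
    · exact absurd (sub_eq_zero.mp h4) hc1
    · exact h4
  unfold wf
  rw [h1, finrank_bot, pow_zero]

theorem wf_one : wf q (1 : UU B) = (-(q : ℂ)) ^ finrank F V := by
  have h1 : fx (1 : UU B) = ⊤ := by
    rw [Submodule.eq_top_iff']
    intro x
    rfl
  unfold wf
  rw [h1, finrank_top]

/-- `|Z| = q + 1`. -/
theorem card_Zs (h : HS q σ B) (hn : 1 ≤ finrank F V) : Nat.card (Zs B) = q + 1 := by
  classical
  have := Fintype.ofFinite F
  have hF : Fintype.card F = q ^ 2 := by rw [← Nat.card_eq_fintype_card, h.card]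
  have : Nontrivial V := Module.nontrivial_of_finrank_pos (R := F) (by omega)
  obtain ⟨x₀, hx₀⟩ := exists_ne (0 : V)
  have h2 := Cfsg.Agent.ClassicalGeometry.GUBasic.card_rootsOfUnity_eq (F := F) hF
  rw [← h2]
  symm
  choose s hs using fun c : {c : F // c ^ (q + 1) = 1} => exists_scalar (B := B) h c.2
  have hc : ∀ c : rootsOfUnity (q + 1) F, (((c : Fˣ) : F)) ^ (q + 1) = 1 := fun c => by
    rw [← Units.val_pow_eq_pow_val, (mem_rootsOfUnity _ _).1 c.2, Units.val_one]
  refine Nat.card_congr (Equiv.ofBijective (fun c : rootsOfUnity (q + 1) F =>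
    (⟨s ⟨((c : Fˣ) : F), hc c⟩, ⟨_, hs _⟩⟩ : Zs B)) ⟨?_, ?_⟩)
  · intro c c' hcc
    have h3 := congrArg (fun z : Zs B => ac B (z : UU B) x₀) hcc
    simp only [hs] at h3
    have h4 : (((c : Fˣ) : F) - ((c' : Fˣ) : F)) • x₀ = 0 := by rw [sub_smul, h3, sub_self]
    rcases smul_eq_zero.mp h4 with h5 | h5
    · exact Subtype.ext (Units.ext (sub_eq_zero.mp h5))
    · exact absurd h5 hx₀
  · rintro ⟨z, c, hz⟩
    have hcq := scalar_pow h hn hz
    have hc0 : c ≠ 0 := by
      rintro rfl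
      rw [zero_pow (by omega)] at hcq
      exact zero_ne_one hcq
    refine ⟨⟨Units.mk0 c hc0, ?_⟩, ?_⟩
    · rw [mem_rootsOfUnity]
      ext
      rw [Units.val_pow_eq_pow_val, Units.val_mk0, hcq, Units.val_one]
    · apply Subtype.ext
      apply ac_ext
      intro x
      show ac B (s ⟨_, _⟩) x = ac B z x
      rw [hs, hz]
      rfl


instance zs_normal : (Zs B).Normal := by
  refine ⟨fun z hz g => ?_⟩
  obtain ⟨c, hc⟩ := hz
  refine ⟨c, fun x => ?_⟩
  rw [ac_mul, ac_mul, hc, ac_smul, ac_ac_inv]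

theorem zs_comm {z : UU B} (hz : z ∈ Zs B) (g : UU B) : z * g = g * z := by
  obtain ⟨c, hc⟩ := hz
  apply ac_ext
  intro x
  rw [ac_mul, ac_mul, hc, hc, ac_smul]

end Main

section Std

open Cfsg.Agent.H91.U Cfsg.Agent.LieClassical.HermBasic

variable {F : Type u} [Field F] [Fintype F] {q n : ℕ}

theorem hs_std (hF : Fintype.card F = q ^ 2) (n : ℕ) : HS q ((Cfsg.Agent.LieClassical.HermBasic.conj hF : F ≃+* F) : F →+* F) (sB hF n) where
  two_le := Cfsg.Agent.ClassicalGeometry.GUBasic.two_le hF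
  card := by rw [Nat.card_eq_fintype_card, hF]
  sig := fun _ => rfl
  symm := (hform_sB hF n).symm
  sep := (hform_sB hF n).nd.1

theorem dt_pow (hF : Fintype.card F = q ^ 2) (g : UU (sB hF n)) : dt g ^ (q + 1) = 1 := by
  set A := LinearMap.toMatrix' ((g : (Fin n → F) ≃ₗ[F] (Fin n → F)) : (Fin n → F) →ₗ[F] (Fin n → F)) with hA
  have h1 : ∀ v, A.mulVec v = ac (sB hF n) g v := fun v => by
    rw [hA, LinearMap.toMatrix'_mulVec]
    rfl
  have h2 := Cfsg.Agent.ClassicalGeometry.GUBasic.det_pow (n := n) (q := q) hF (A := A) (fun u v => by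
    rw [h1, h1]
    exact form_ac g v u)
  ext
  rw [Units.val_pow_eq_pow_val, Units.val_one, dt_def, LinearEquiv.coe_det, ← LinearMap.det_toMatrix']
  exact h2

/-- The projection of the unitary group onto `PSU`, for `n` prime to `q + 1`. -/
theorem exists_surj (hF : Fintype.card F = q ^ 2) (hn : 3 ≤ n) (hcop : Nat.Coprime n (q + 1)) {G : Type v}
    [Group G] (e : G ≃* PSU n F q) :
    ∃ φ : UU (sB hF n) →* G, Function.Surjective φ ∧ ∀ g, φ g = 1 ↔ g ∈ Zs (sB hF n) := by
  have h := hs_std hF n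
  have hfr : finrank F (Fin n → F) = n := finrank_std n
  have hj : ∀ x y : Fin n → F, sB hF n (LinearEquiv.refl F (Fin n → F) x) (LinearEquiv.refl F (Fin n → F) y) =
      hermForm n F q y x := fun x y => rfl
  set i : SU n F q →* UU (sB hF n) := Cfsg.Agent.H269.CC.homU (LinearEquiv.refl F (Fin n → F)) hj with hi
  have hac : ∀ (A : SU n F q) (x : Fin n → F), ac (sB hF n) (i A) x =
      Cfsg.Agent.ClassicalGeometry.UnitTransv.act A x := fun A x => rfl
  set p : UU (sB hF n) →* UU (sB hF n) ⧸ Zs (sB hF n) := QuotientGroup.mk' _ with hp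
  set f : SU n F q →* G := (e.symm : PSU n F q →* G).comp (Cfsg.Agent.ClassicalGeometry.UnitAutBasic.pr n F q)
    with hf
  have hfs : Function.Surjective f := by
    rw [hf]
    exact e.symm.surjective.comp Cfsg.Agent.ClassicalGeometry.UnitAutBasic.pr_surjective
  have hps : Function.Surjective (p.comp i) := by
    intro y
    obtain ⟨g, rfl⟩ := QuotientGroup.mk'_surjective _ y
    -- a scalar with the same determinant
    obtain ⟨a, c, hac'⟩ : IsCoprime (n : ℤ) ((q + 1 : ℕ) : ℤ) := Nat.isCoprime_iff_coprime.2 hcop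
    have hd := dt_pow hF g
    set d : Fˣ := dt g ^ a with hdd
    have hd1 : d ^ (q + 1) = 1 := by
      rw [hdd, ← zpow_natCast, ← zpow_mul, mul_comm, zpow_mul, zpow_natCast, hd, one_zpow]
    have hd2 : d ^ n = dt g := by
      have h1 : dt g ^ (a * (n : ℤ) + c * ((q + 1 : ℕ) : ℤ)) = dt g := by rw [hac', zpow_one]
      have h2 : dt g ^ (c * ((q + 1 : ℕ) : ℤ)) = 1 := by
        rw [mul_comm, zpow_mul, zpow_natCast, hd, one_zpow]
      rw [zpow_add, h2, mul_one, zpow_mul, zpow_natCast] at h1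
      exact h1
    obtain ⟨z, hz⟩ := exists_scalar h (c := (d : F)) (by
      rw [← Units.val_pow_eq_pow_val, hd1, Units.val_one])
    have hzs : z ∈ Zs (sB hF n) := ⟨_, hz⟩
    have hdz : dt z = dt g := by
      ext
      rw [dt_scalar hz, hfr, ← Units.val_pow_eq_pow_val, hd2]
    have h1 : dt (z⁻¹ * g) = 1 := by rw [map_mul, map_inv, hdz, inv_mul_cancel]
    obtain ⟨A, hA⟩ := Cfsg.Agent.H269.CC.exists_homU (LinearEquiv.refl F (Fin n → F)) hj h1
    refine ⟨A, ?_⟩
    show p (i A) = _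
    rw [hi, hA, hp]
    rw [map_mul, map_inv]
    have h2 : QuotientGroup.mk' (Zs (sB hF n)) z = 1 := (QuotientGroup.eq_one_iff z).2 hzs
    rw [h2, inv_one, one_mul]
  have hker : (p.comp i).ker = f.ker := by
    ext A
    rw [MonoidHom.mem_ker, MonoidHom.mem_ker]
    have h1 : (p.comp i) A = 1 ↔ i A ∈ Zs (sB hF n) := QuotientGroup.eq_one_iff _
    have h2 : f A = 1 ↔ A ∈ Subgroup.center (SU n F q) := by
      rw [hf]
      show e.symm _ = 1 ↔ _
      rw [map_eq_one_iff e.symm e.symm.injective]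
      exact QuotientGroup.eq_one_iff _
    rw [h1, h2]
    constructor
    · rintro ⟨c, hc⟩
      exact Cfsg.Agent.ClassicalGeometry.UnitAutBasic.mem_center_of_scalar (c := c) fun x =>
        (hac A x).symm.trans (hc x)
    · intro hA
      obtain ⟨c, _, hc⟩ := Cfsg.Agent.ClassicalGeometry.UnitAutBasic.exists_scalar_of_mem_center hF hn hA
      exact ⟨c, fun x => (hac A x).trans (hc x)⟩
  let e1 : (SU n F q) ⧸ (p.comp i).ker ≃* UU (sB hF n) ⧸ Zs (sB hF n) :=
    QuotientGroup.quotientKerEquivOfSurjective _ hps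
  let e2 : (SU n F q) ⧸ f.ker ≃* G := QuotientGroup.quotientKerEquivOfSurjective _ hfs
  let e3 : (SU n F q) ⧸ (p.comp i).ker ≃* (SU n F q) ⧸ f.ker := QuotientGroup.quotientMulEquivOfEq hker
  refine ⟨(((e1.symm.trans e3).trans e2 : _ ≃* G) : _ →* G).comp p, ?_, ?_⟩
  · exact ((e1.symm.trans e3).trans e2).surjective.comp (QuotientGroup.mk'_surjective _)
  · intro g
    show ((e1.symm.trans e3).trans e2) (p g) = 1 ↔ _
    rw [map_eq_one_iff _ ((e1.symm.trans e3).trans e2).injective]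
    exact QuotientGroup.eq_one_iff g

end Std

section Cent

variable {F : Type u} {V : Type v} [Field F] [AddCommGroup V] [Module F V] {q : ℕ} {σ : F →+* F}
  {B : V →ₛₗ[σ] V →ₗ[F] F} [Finite F] [Finite V]

theorem map_centralizer (h : HS q σ B) (hn : 1 ≤ finrank F V) (hcop : Nat.Coprime (finrank F V) (q + 1))
    {G : Type*} [Group G] (φ : UU B →* G) (hφ : Function.Surjective φ) (hk : ∀ g, φ g = 1 ↔ g ∈ Zs B)
    (y : UU B) : (Subgroup.centralizer ({y} : Set (UU B))).map φ = Subgroup.centralizer {φ y} := by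
  apply le_antisymm
  · rintro _ ⟨k, hk', rfl⟩
    have hk' : k ∈ Subgroup.centralizer ({y} : Set (UU B)) := hk'
    rw [Subgroup.mem_centralizer_singleton_iff] at hk' ⊢
    rw [← map_mul, hk', map_mul]
  · intro g hg
    obtain ⟨k, rfl⟩ := hφ g
    rw [Subgroup.mem_centralizer_singleton_iff, ← map_mul, ← map_mul] at hg
    refine ⟨k, ?_, rfl⟩
    show k ∈ Subgroup.centralizer ({y} : Set (UU B))
    rw [Subgroup.mem_centralizer_singleton_iff]
    have h1 : φ (k * y * (y * k)⁻¹) = 1 := by rw [map_mul, hg, map_inv, mul_inv_cancel]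
    obtain ⟨c, hc⟩ := (hk _).1 h1
    have h2 := scalar_pow h hn hc
    have h3 := dt_scalar hc
    have h4 : dt (k * y * (y * k)⁻¹) = 1 := by
      simp only [map_mul, map_inv]
      rw [mul_comm (dt y) (dt k), mul_inv_cancel]
    rw [h4, Units.val_one] at h3
    have h5 : c = 1 := by
      have h6 : orderOf c ∣ finrank F V := orderOf_dvd_of_pow_eq_one h3.symm
      have h7 : orderOf c ∣ q + 1 := orderOf_dvd_of_pow_eq_one h2
      have h8 : orderOf c = 1 := Nat.eq_one_of_dvd_coprimes hcop h6 h7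
      exact orderOf_eq_one_iff.1 h8
    have h9 : k * y * (y * k)⁻¹ = 1 := by
      apply ac_ext
      intro x
      rw [hc, h5, one_smul, ac_one]
    exact mul_inv_eq_one.1 h9

end Cent


section Final

variable {F : Type u} {V : Type v} [Field F] [AddCommGroup V] [Module F V] {q : ℕ} {σ : F →+* F}
  {B : V →ₛₗ[σ] V →ₗ[F] F} [Finite F] [Finite V]

/-- the unitary group is `Z * SU` if `n` is prime to `q + 1` and determinants have norm one -/
theorem exists_scalar_mul (h : HS q σ B) (hcop : Nat.Coprime (finrank F V) (q + 1))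
    (hdt : ∀ g : UU B, dt g ^ (q + 1) = 1) (g : UU B) : ∃ z ∈ Zs B, dt (z⁻¹ * g) = 1 := by
  obtain ⟨a, c, hac'⟩ : IsCoprime ((finrank F V : ℕ) : ℤ) ((q + 1 : ℕ) : ℤ) := Nat.isCoprime_iff_coprime.2 hcop
  have hd := hdt g
  set d : Fˣ := dt g ^ a with hdd
  have hd1 : d ^ (q + 1) = 1 := by
    rw [hdd, ← zpow_natCast, ← zpow_mul, mul_comm, zpow_mul, zpow_natCast, hd, one_zpow]
  have hd2 : d ^ finrank F V = dt g := by
    have h1 : dt g ^ (a * ((finrank F V : ℕ) : ℤ) + c * ((q + 1 : ℕ) : ℤ)) = dt g := by rw [hac', zpow_one]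
    have h2 : dt g ^ (c * ((q + 1 : ℕ) : ℤ)) = 1 := by
      rw [mul_comm, zpow_mul, zpow_natCast, hd, one_zpow]
    rw [zpow_add, h2, mul_one, zpow_mul, zpow_natCast] at h1
    exact h1
  obtain ⟨z, hz⟩ := exists_scalar h (c := (d : F)) (by
    rw [← Units.val_pow_eq_pow_val, hd1, Units.val_one])
  refine ⟨z, ⟨_, hz⟩, ?_⟩
  have hdz : dt z = dt g := by
    ext
    rw [dt_scalar hz, ← Units.val_pow_eq_pow_val, hd2]
  rw [map_mul, map_inv, hdz, inv_mul_cancel]

/-- A character trivial on the scalars without reflection-fixed vectors is nontrivial on transvections. -/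
theorem ne_of_noRef (h : HS q σ B) (hn : 1 ≤ finrank F V) (h32 : ¬ (finrank F V = 3 ∧ q = 2))
    (hcop : Nat.Coprime (finrank F V) (q + 1)) (hdt : ∀ g : UU B, dt g ^ (q + 1) = 1) {χ : UU B → ℂ}
    (hχ : IsIrrCharacter (UU B) χ) (hz : ∀ z ∈ Zs B, ∀ g, χ (z * g) = χ g) (hr : NoRef χ)
    (hf : ∃ f : V, B f f = 1) (t : UU B) (ht : IsTv t) : χ t ≠ χ 1 := by
  intro h1
  have hcl := isIrr_isClassFunction hχ
  have hne := isIrr_apply_one_ne_zero hχ
  obtain ⟨n, ρ, _, rfl⟩ := hχ
  have hdeg : ρ.character 1 = (finrank ℂ (Fin n → ℂ) : ℂ) := Representation.char_one ρ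
  have hker : ∀ g : UU B, ρ.character g = ρ.character 1 ↔ ρ g = 1 := fun g => by
    rw [hdeg]
    exact Cfsg.Agent.Characters.Values.character_eq_finrank_iff ρ g
  have htv : ∀ t' : UU B, IsTv t' → t' ∈ ρ.ker := by
    intro t' ht'
    obtain ⟨c, hc⟩ := isConj_iff.1 (isConj_tv h ht ht')
    rw [MonoidHom.mem_ker, ← hker, ← hc, hcl, h1]
  have hall : ∀ g : UU B, ρ.character g = ρ.character 1 := by
    intro g
    obtain ⟨z, hzs, hd⟩ := exists_scalar_mul h hcop hdt g
    have h2 : z⁻¹ * g ∈ ρ.ker := gen_tv h h32 htv hd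
    have h3 : ρ.character (z * (z⁻¹ * g)) = ρ.character (z⁻¹ * g) := hz z hzs _
    rw [mul_inv_cancel_left] at h3
    rw [h3]
    exact (hker _).2 h2
  obtain ⟨f, hff⟩ := hf
  have h4 := hr f hff
  have : Fintype (Ref B f) := Fintype.ofFinite _
  rw [finsum_eq_sum_of_fintype, Finset.sum_congr rfl fun x _ => hall _, Finset.sum_const, nsmul_eq_mul] at h4
  rcases mul_eq_zero.1 h4 with h5 | h5
  · have : Fintype.card (Ref B f) ≠ 0 := Fintype.card_ne_zero
    exact this (by exact_mod_cast h5)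
  · exact hne h5

/-- the value at one of the Weil character -/
theorem weil_one (h : HS q σ B) (hodd : Odd (finrank F V)) {χ : UU B → ℂ}
    (hf : ∀ g : UU B, χ g = ((q : ℂ) + 1)⁻¹ * ∑ᶠ z : Zs B, (((1 : Zs B →* ℂˣ) z)⁻¹ : ℂˣ) * (- wf q ((z : UU B) * g))) :
    charDegree χ = (q ^ finrank F V - q) / (q + 1) := by
  classical
  set n := finrank F V with hnd
  have hn : 1 ≤ finrank F V := hodd.pos
  have : Fintype (Zs B) := Fintype.ofFinite _
  have h2 := h.two_le
  have h1 : ∑ᶠ z : Zs B, (((1 : Zs B →* ℂˣ) z)⁻¹ : ℂˣ) * (- wf q ((z : UU B) * 1)) = (q : ℂ) ^ n - q := by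
    rw [finsum_eq_sum_of_fintype]
    have h3 : ∀ z : Zs B, ((((1 : Zs B →* ℂˣ) z)⁻¹ : ℂˣ) : ℂ) * (- wf q ((z : UU B) * 1)) =
        if z = 1 then (q : ℂ) ^ n else -1 := by
      intro z
      rw [mul_one, MonoidHom.one_apply, inv_one, Units.val_one, one_mul]
      by_cases hz : z = 1
      · rw [if_pos hz, hz, OneMemClass.coe_one, wf_one, ← hnd, hodd.neg_pow, neg_neg]
      · rw [if_neg hz]
        obtain ⟨c, hc⟩ := z.2
        rw [wf_scalar h hc]
        rintro rfl
        apply hz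
        apply Subtype.ext
        apply ac_ext
        intro x
        rw [hc, one_smul]
        rfl
    rw [Finset.sum_congr rfl fun z _ => h3 z, Finset.sum_ite, Finset.filter_eq', if_pos (Finset.mem_univ _),
      Finset.sum_singleton, Finset.sum_const, nsmul_eq_mul]
    have h4 : (Finset.univ.filter fun z : Zs B => ¬ z = 1).card = q := by
      rw [Finset.filter_not, Finset.filter_eq', if_pos (Finset.mem_univ _), Finset.card_sdiff_of_subset
        (Finset.subset_univ _), Finset.card_singleton, Finset.card_univ, ← Nat.card_eq_fintype_card, card_Zs h hn]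
      omega
    rw [h4]
    ring
  have h5 : (q + 1) ∣ q ^ n - q := by
    obtain ⟨k, hk⟩ := hodd
    have h6 : q ^ n - q = q * ((q ^ 2) ^ k - 1 ^ k) := by
      rw [hk, one_pow, Nat.mul_sub, mul_one, ← pow_mul, ← pow_succ']
    rw [h6]
    have h7 : q ^ 2 - 1 ∣ (q ^ 2) ^ k - 1 ^ k := Nat.sub_dvd_pow_sub_pow _ _ _
    have h8 : q ^ 2 - 1 = (q + 1) * (q - 1) := by
      have := Nat.sq_sub_sq q 1
      simpa using this
    exact Dvd.dvd.mul_left ((Dvd.intro _ h8.symm).trans h7) _
  obtain ⟨d, hd⟩ := h5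
  have h9 : χ 1 = (d : ℂ) := by
    rw [hf 1, h1]
    have h10 : ((q ^ n - q : ℕ) : ℂ) = (q : ℂ) ^ n - q := by
      rw [Nat.cast_sub, Nat.cast_pow]
      exact Nat.le_self_pow (by omega) q
    rw [← h10, hd]
    push_cast
    have h11 : (q : ℂ) + 1 ≠ 0 := by exact_mod_cast Nat.succ_ne_zero q
    rw [inv_mul_cancel_left₀ h11]
  rw [charDegree, h9, Complex.natCast_re, Nat.floor_natCast, hd, Nat.mul_div_cancel_left _ (Nat.succ_pos q)]

end Final

section Result

open Cfsg.Agent.H91.U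

theorem result_aux {G : Type*} [Group G] [Fintype G] (n q : ℕ) (F : Type*) [Field F] [Fintype F]
    (hF : Fintype.card F = q ^ 2) (hn : 3 ≤ n) (hcop : Nat.Coprime n (2 * (q + 1)))
    (hG : Nonempty (G ≃* Cfsg.PSU n F q)) :
    Nat.card {χ : Cfsg.IrrCharacter G // Cfsg.charDegree (χ : G → ℂ) = (q ^ n - q) / (q + 1)} = 1 ∧
      ∀ χ : Cfsg.IrrCharacter G, Cfsg.classInner (χ : G → ℂ)
        (fun g : G => (Nat.card ↥(Subgroup.centralizer ({g} : Set G)) : ℂ)) ≠ 0 ↔
        Cfsg.charDegree (χ : G → ℂ) ≠ (q ^ n - q) / (q + 1) := by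
  obtain ⟨e⟩ := hG
  have hcop1 : Nat.Coprime n (q + 1) := Nat.Coprime.coprime_mul_left_right hcop
  have hodd' : Odd n := by
    have h1 : Nat.Coprime n 2 := Nat.Coprime.coprime_mul_right_right hcop
    exact Nat.coprime_two_right.1 h1
  obtain ⟨φ, hφ, hk⟩ := exists_surj hF hn hcop1 e
  have h := hs_std hF n
  have hfr : finrank F (Fin n → F) = n := finrank_std n
  have hodd : Odd (finrank F (Fin n → F)) := by rw [hfr]; exact hodd'
  have hn3 : 3 ≤ finrank F (Fin n → F) := by rw [hfr]; exact hn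
  have h32 : ¬ (finrank F (Fin n → F) = 3 ∧ q = 2) := by
    rw [hfr]
    rintro ⟨rfl, rfl⟩
    revert hcop1
    decide
  have hcop2 : Nat.Coprime (finrank F (Fin n → F)) (q + 1) := by rw [hfr]; exact hcop1
  have hdt := dt_pow (n := n) hF
  have hex : ∃ f : Fin n → F, sB hF n f f = 1 := by
    obtain ⟨f, _, hf⟩ := exists_unit h (W := (⊤ : Submodule F (Fin n → F))) (by
      intro hts
      have h1 := finrank_le_of_TS h hts
      rw [finrank_top] at h1
      omega)
    exact ⟨f, hf⟩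
  -- inflation
  have hinf : ∀ χ : IrrCharacter G, IsIrrCharacter (UU (sB hF n)) ((χ : G → ℂ) ∘ φ) := fun χ =>
    isIrr_comp φ hφ χ.2
  have hz : ∀ χ : IrrCharacter G, ∀ z ∈ Zs (sB hF n), ∀ g, ((χ : G → ℂ) ∘ φ) (z * g) = ((χ : G → ℂ) ∘ φ) g := by
    intro χ z hz g
    simp only [Function.comp_apply, map_mul, (hk z).2 hz, one_mul]
  obtain ⟨χ₀, hr₀, ht₀, hz₀, hf₀, hu₀⟩ := exists_unique_weil h hodd hn3 (1 : Zs (sB hF n) →* ℂˣ)
  have hdeg₀ := weil_one h hodd hf₀
  rw [hfr] at hdeg₀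
  have huniq : ∀ χ : IrrCharacter G, NoRef ((χ : G → ℂ) ∘ φ) → (χ : G → ℂ) ∘ φ = (χ₀ : UU (sB hF n) → ℂ) := by
    intro χ hχ
    have h1 := hu₀ ⟨_, hinf χ⟩ hχ (ne_of_noRef h (by omega) h32 hcop2 hdt (hinf χ) (hz χ) hχ hex) (by
      intro z g
      rw [MonoidHom.one_apply, Units.val_one, one_mul]
      exact hz χ z z.2 g)
    exact congrArg Subtype.val h1
  have hdegφ : ∀ χ : IrrCharacter G, charDegree ((χ : G → ℂ) ∘ φ) = charDegree (χ : G → ℂ) := by
    intro χ
    rw [charDegree, charDegree, Function.comp_apply, map_one]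
  have hiff : ∀ χ : IrrCharacter G, NoRef ((χ : G → ℂ) ∘ φ) ↔
      charDegree (χ : G → ℂ) = (q ^ n - q) / (q + 1) := by
    intro χ
    constructor
    · intro hχ
      rw [← hdegφ, huniq χ hχ, hdeg₀]
    · intro hd
      refine noRef_of_degree h hodd hn3 hcop2 (hinf χ) (hz χ) ?_
      rw [hdegφ, hfr, hd]
  have hcent : ∀ (χ : IrrCharacter G) (y : UU (sB hF n)), Fix (Subgroup.centralizer {φ y}) (χ : G → ℂ) ↔
      Fix (Subgroup.centralizer ({y} : Set (UU (sB hF n)))) ((χ : G → ℂ) ∘ φ) := by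
    intro χ y
    rw [← map_centralizer h (by omega) hcop2 φ hφ hk y]
    exact ⟨fix_comp φ _, fix_of_comp φ _ (isIrr_isCharacter χ.2)⟩
  refine ⟨?_, fun χ => ?_⟩
  · -- exactly one character
    have : Fintype φ.ker := Fintype.ofFinite _
    have hker : ∀ m : φ.ker, (χ₀ : UU (sB hF n) → ℂ) m = (χ₀ : UU (sB hF n) → ℂ) 1 := by
      intro m
      have h1 := hz₀ ⟨m, (hk _).1 m.2⟩ 1
      rw [MonoidHom.one_apply, Units.val_one, one_mul, mul_one] at h1
      exact h1
    obtain ⟨χ', hχ'⟩ := Cfsg.Agent.Blocks.Deflate.exists_deflation φ.ker (χ₀ : UU (sB hF n) → ℂ) χ₀.2 (by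
      rw [Finset.sum_congr rfl fun m _ => hker m, Finset.sum_const, nsmul_eq_mul]
      refine mul_ne_zero ?_ (isIrr_apply_one_ne_zero χ₀.2)
      have : Fintype.card φ.ker ≠ 0 := Fintype.card_ne_zero
      exact_mod_cast this)
    let e' : UU (sB hF n) ⧸ φ.ker ≃* G := QuotientGroup.quotientKerEquivOfSurjective φ hφ
    let ψ : IrrCharacter G := ⟨(χ' : UU (sB hF n) ⧸ φ.ker → ℂ) ∘ e'.symm,
      isIrr_comp (e'.symm : G →* _) e'.symm.surjective χ'.2⟩
    have hψ : (ψ : G → ℂ) ∘ φ = (χ₀ : UU (sB hF n) → ℂ) := by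
      rw [hχ']
      funext g
      have h1 : e'.symm (φ g) = (QuotientGroup.mk g : UU (sB hF n) ⧸ φ.ker) := by
        rw [MulEquiv.symm_apply_eq]
        rfl
      show (χ' : UU (sB hF n) ⧸ φ.ker → ℂ) (e'.symm (φ g)) = (χ' : UU (sB hF n) ⧸ φ.ker → ℂ) (QuotientGroup.mk g)
      rw [h1]
    rw [Nat.card_eq_one_iff_unique]
    refine ⟨⟨?_⟩, ⟨⟨ψ, ?_⟩⟩⟩
    · rintro ⟨χ, hχ⟩ ⟨χ', hχ'⟩
      apply Subtype.ext
      apply Subtype.ext
      have h1 := huniq χ ((hiff χ).2 hχ)
      have h2 := huniq χ' ((hiff χ').2 hχ')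
      funext g
      obtain ⟨y, rfl⟩ := hφ g
      exact congrFun (h1.trans h2.symm) y
    · rw [← hiff, hψ]
      exact hr₀
  · rw [Ne, conj_inner_eq_zero_iff (isIrr_isCharacter χ.2), Ne, ← hiff, not_iff_not]
    constructor
    · intro hno
      by_contra hr
      obtain ⟨m, hm⟩ := hodd
      obtain ⟨x, hx⟩ := part_one h hm (by omega) (by
        rintro ⟨rfl, rfl⟩
        exact h32 ⟨by omega, rfl⟩) (hinf χ) (hz χ) hr
      exact hno (φ x) ((hcent χ x).2 hx)
    · intro hr g
      obtain ⟨y, rfl⟩ := hφ g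
      rw [hcent]
      intro hfix
      obtain ⟨Y, hY, hsum⟩ := exists_Y h hodd y
      have h1 := weil_sum_zero h hodd hn3 (hinf χ) hr
        (ne_of_noRef h (by omega) h32 hcop2 hdt (hinf χ) (hz χ) hr hex) Y hsum
      have hle : Y ≤ Subgroup.centralizer ({y} : Set (UU (sB hF n))) := fun k hk =>
        Subgroup.mem_centralizer_singleton_iff.2 (hY k hk)
      exact (Fix.mono hle (isIrr_isCharacter (hinf χ)) hfix) h1

end Result

end Cfsg.Agent.H603.CC
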